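import Mathlib
import Cfsg.Prelude.Def_CaseTheorems
import Cfsg.Agent.HN.CentUp2
import Cfsg.Agent.CpAut.LyFiveRow
import Cfsg.Agent.H569.KleinIso
import Cfsg.Agent.CpAutHN.Second
import Cfsg.Agent.KFacts.HN.Sheet
import Cfsg.Agent.KFacts.HN.Classes
import Cfsg.Agent.CpAutTh.ThreeE
import Cfsg.Agent.CpAut.Alt
import Cfsg.Agent.S0144
import Cfsg.Prelude.Def_Classical
import Cfsg.Prelude.Def_LieTypeChar
import Cfsg.Agent.S0243
import Cfsg.Agent.S0280
import Cfsg.Agent.Lib.FastPerm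
import Cfsg.Agent.FastGrp
import Cfsg.Agent.Prune
set_option linter.all false
prune_inst 0x7ffcfefbaff8bddfffff7e7ffffddffff9fcffffffdffbfbffecfbffafdf6b06fbe5fbafffe858ff7ef7e2b630f87b53fdffceffef6bdc7ffffd5ff45fffff9fffffbfac51f7b83e1ffe6ffffbf97f8e7f3fffffffffffffffffffffffffffbeffffffffffff
open scoped Cfsg.Agent.FastGrp

-- merged: Cfsg.Agent.CpAutHNFive.QDAbs
section

/-!
# The quasi-dihedral group of order 16 (helper89)
-/

set_option autoImplicit false

namespace Cfsg.Agent.CpAutHNFive.QD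

open Subgroup Cfsg

variable {G : Type*} [Group G] {g h : G}

/-- the data -/
structure QDat (g h : G) : Prop where
  hg : orderOf g = 8
  hh : orderOf h = 2
  hgh : h * g * h⁻¹ = g ^ 3

namespace QDat

theorem hh2 (D : QDat g h) : h * h = 1 := by rw [← pow_two, ← D.hh, pow_orderOf_eq_one]

theorem g8 (D : QDat g h) : g ^ 8 = 1 := by rw [← D.hg, pow_orderOf_eq_one]

theorem comm (D : QDat g h) (i : ℕ) : h * g ^ i = g ^ (3 * i) * h := by
  have h1 : h * g ^ i * h⁻¹ = g ^ (3 * i) := by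
    have h2 := map_pow (MulAut.conj h) g i
    rw [MulAut.conj_apply, MulAut.conj_apply, D.hgh, ← pow_mul] at h2
    exact h2
  rw [← h1]
  group

theorem pow_ne (D : QDat g h) {i : ℕ} (h0 : 0 < i) (h8 : i < 8) : g ^ i ≠ 1 := by
  intro h1
  have h2 := orderOf_dvd_of_pow_eq_one h1
  rw [D.hg] at h2
  exact absurd (Nat.le_of_dvd h0 h2) (by omega)

theorem mem_form (D : QDat g h) {x : G} (hx : x ∈ _root_.Subgroup.closure ({g, h} : Set G)) :
    ∃ i : ℕ, x = g ^ i ∨ x = g ^ i * h := by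
  induction hx using closure_induction with
  | mem y hy =>
    rcases hy with rfl | rfl
    · exact ⟨1, Or.inl (pow_one _).symm⟩
    · exact ⟨0, Or.inr (by simp)⟩
  | one => exact ⟨0, Or.inl (pow_zero _).symm⟩
  | mul a b _ _ ha hb =>
    obtain ⟨i, hi⟩ := ha
    obtain ⟨j, hj⟩ := hb
    rcases hi with rfl | rfl <;> rcases hj with rfl | rfl
    · exact ⟨i + j, Or.inl (pow_add _ _ _).symm⟩
    · exact ⟨i + j, Or.inr (by rw [pow_add, mul_assoc])⟩
    · exact ⟨i + 3 * j, Or.inr (by rw [mul_assoc, D.comm, ← mul_assoc, pow_add])⟩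
    · refine ⟨i + 3 * j, Or.inl ?_⟩
      calc g ^ i * h * (g ^ j * h) = g ^ i * (h * g ^ j) * h := by group
        _ = g ^ i * g ^ (3 * j) * (h * h) := by rw [D.comm]; group
        _ = g ^ (i + 3 * j) := by rw [D.hh2, mul_one, pow_add]
  | inv a _ ha =>
    obtain ⟨i, hi⟩ := ha
    have hinv : (g ^ i)⁻¹ = g ^ (7 * i) := by
      rw [inv_eq_iff_mul_eq_one, ← pow_add, show i + 7 * i = 8 * i by ring, pow_mul, D.g8, one_pow]
    rcases hi with rfl | rfl
    · exact ⟨7 * i, Or.inl hinv⟩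
    · refine ⟨3 * (7 * i), Or.inr ?_⟩
      rw [mul_inv_rev, hinv, (inv_eq_of_mul_eq_one_left D.hh2 : h⁻¹ = h), D.comm]

theorem mem_form' (D : QDat g h) {x : G} (hx : x ∈ _root_.Subgroup.closure ({g, h} : Set G)) :
    ∃ i < 8, x = g ^ i ∨ x = g ^ i * h := by
  obtain ⟨i, hi⟩ := D.mem_form hx
  have h1 : g ^ i = g ^ (i % 8) := by
    conv_lhs => rw [← Nat.div_add_mod i 8, pow_add, pow_mul, D.g8, one_pow, one_mul]
  rw [h1] at hi
  exact ⟨i % 8, Nat.mod_lt _ (by norm_num), hi⟩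

theorem hmem (g h : G) : h ∈ _root_.Subgroup.closure ({g, h} : Set G) := _root_.Subgroup.subset_closure (by simp)

theorem gmem (g h : G) : g ∈ _root_.Subgroup.closure ({g, h} : Set G) := _root_.Subgroup.subset_closure (by simp)

theorem not_comm (D : QDat g h) : h * g ≠ g * h := by
  intro h1
  have h2 := D.hgh
  rw [h1, mul_inv_cancel_right] at h2
  have h3 : g ^ 2 = 1 := by
    have h4 : g * g ^ 2 = g * 1 := by rw [mul_one, ← pow_succ']; exact h2.symm
    exact mul_left_cancel h4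
  exact D.pow_ne (by norm_num) (by norm_num) h3

theorem card [Finite G] (D : QDat g h) : Nat.card ↥(_root_.Subgroup.closure ({g, h} : Set G)) = 16 := by
  have h1 : Nat.card ↥(_root_.Subgroup.closure ({g, h} : Set G)) ≤ Nat.card (Fin 8 × Fin 2) := by
    refine Nat.card_le_card_of_surjective (fun t : Fin 8 × Fin 2 =>
      (⟨g ^ (t.1 : ℕ) * h ^ (t.2 : ℕ), mul_mem (pow_mem (gmem g h) _) (pow_mem (hmem g h) _)⟩ :
        ↥(closure ({g, h} : Set G)))) ?_
    rintro ⟨x, hx⟩
    obtain ⟨i, hi, rfl | rfl⟩ := D.mem_form' hx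
    · exact ⟨(⟨i, hi⟩, 0), Subtype.ext (by simp)⟩
    · exact ⟨(⟨i, hi⟩, 1), Subtype.ext (by simp)⟩
  rw [Nat.card_prod, Nat.card_fin, Nat.card_fin] at h1
  have h2 : zpowers g ≤ _root_.Subgroup.closure ({g, h} : Set G) := by rw [zpowers_le]; exact gmem g h
  have h3 : zpowers g ≠ closure ({g, h} : Set G) := by
    intro h4
    have h5 : h ∈ zpowers g := by rw [h4]; exact hmem g h
    obtain ⟨k, hk⟩ := mem_zpowers_iff.1 h5
    apply D.not_comm
    rw [← hk]
    exact ((Commute.refl g).zpow_left k).eq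
  have h4 := card_dvd_of_le h2
  rw [Nat.card_zpowers, D.hg] at h4
  obtain ⟨m, hm⟩ := h4
  have h5 : Nat.card ↥(closure ({g, h} : Set G)) ≠ 8 := by
    intro h6
    apply h3
    apply Subgroup.eq_of_le_of_card_ge h2
    rw [h6, Nat.card_zpowers, D.hg]
  have h6 : 0 < Nat.card ↥(closure ({g, h} : Set G)) := Nat.card_pos
  have h7 : m ≤ 2 := by omega
  interval_cases m <;> omega

theorem center (D : QDat g h) {x : G} (hx : x ∈ _root_.Subgroup.closure ({g, h} : Set G)) (h1 : x * g = g * x) (h2 : x * h = h * x) :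
    x = 1 ∨ x = g ^ 4 := by
  obtain ⟨i, hi, rfl | rfl⟩ := D.mem_form' hx
  · rw [D.comm] at h2
    have h3 := mul_right_cancel h2
    have h4 : g ^ (2 * i) = 1 := by
      have h5 : g ^ i * g ^ (2 * i) = g ^ i * 1 := by rw [mul_one, ← pow_add, show i + 2 * i = 3 * i by ring, ← h3]
      exact mul_left_cancel h5
    have h5 := orderOf_dvd_of_pow_eq_one h4
    rw [D.hg] at h5
    have h6 : i = 0 ∨ i = 4 := by omega
    rcases h6 with rfl | rfl
    · left; exact pow_zero _
    · right; rfl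
  · exfalso
    apply D.not_comm
    have h3 : g ^ i * (h * g) = g ^ i * (g * h) := by
      rw [← mul_assoc, h1, ← mul_assoc, ← mul_assoc, ← pow_succ, ← pow_succ']
    exact mul_left_cancel h3

theorem isQuasiDihedral [Finite G] (D : QDat g h) : IsQuasiDihedral ↥(_root_.Subgroup.closure ({g, h} : Set G)) := by
  refine ⟨3, le_rfl, by rw [D.card]; norm_num, ⟨g, gmem g h⟩, ⟨h, hmem g h⟩, ?_, ?_, ?_⟩
  · rw [← Subgroup.orderOf_coe]
    simpa using D.hg
  · rw [← Subgroup.orderOf_coe]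
    exact D.hh
  · apply Subtype.ext
    simpa only [_root_.MulMemClass.mk_mul_mk, _root_.Subgroup.coe_mul, _root_.InvMemClass.coe_inv, _root_.Nat.add_one_sub_one, _root_.Nat.reducePow, _root_.SubmonoidClass.mk_pow] using D.hgh

theorem z_sq (D : QDat g h) : g ^ 4 * g ^ 4 = 1 := by rw [← pow_add]; exact D.g8

/-- **It is a Sylow 2-subgroup** if the order of the centraliser of its central involution is not divisible by 32. -/
theorem exists_sylow [Finite G] (D : QDat g h) (hc : ¬ 32 ∣ Nat.card ↥(centralizer ({g ^ 4} : Set G))) :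
    ∃ P : Sylow 2 G, (P : Subgroup G) = _root_.Subgroup.closure ({g, h} : Set G) := by
  have : Fact (Nat.Prime 2) := ⟨Nat.prime_two⟩
  have hS : IsPGroup 2 ↥(_root_.Subgroup.closure ({g, h} : Set G)) := IsPGroup.of_card (n := 4) (by rw [D.card]; norm_num)
  obtain ⟨P, hP⟩ := hS.exists_le_sylow
  have hnt : Nontrivial ↥(P : Subgroup G) := by
    refine ⟨⟨⟨g, hP (gmem g h)⟩, 1, fun e => ?_⟩⟩
    have h1 : g = 1 := congrArg Subtype.val e
    exact D.pow_ne (i := 1) (by norm_num) (by norm_num) (by rw [pow_one]; exact h1)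
  have hcen : Nontrivial (Subgroup.center ↥(P : Subgroup G)) := P.isPGroup'.center_nontrivial
  obtain ⟨c, hc1⟩ := exists_ne (1 : Subgroup.center ↥(P : Subgroup G))
  set y : G := ((c : ↥(P : Subgroup G)) : G) with hy
  have hyP : y ∈ (P : Subgroup G) := (c : ↥(P : Subgroup G)).2
  have hyc : ∀ s ∈ (P : Subgroup G), s * y = y * s := fun s hs => congrArg Subtype.val (mem_center_iff.1 c.2 ⟨s, hs⟩)
  have hy1 : y ≠ 1 := fun e => hc1 (Subtype.ext (Subtype.ext e))
  -- the subgroup `⟨S, y⟩` of `C(z)`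
  have hle : _root_.Subgroup.closure ({g, h} : Set G) ⊔ zpowers y ≤ centralizer ({g ^ 4} : Set G) := by
    rw [sup_le_iff]
    constructor
    · rw [closure_le]
      rintro s (rfl | rfl)
      · exact mem_centralizer_singleton_iff.2 (by rw [← pow_succ, ← pow_succ'])
      · refine mem_centralizer_singleton_iff.2 ?_
        rw [D.comm, show 3 * 4 = 4 + 8 by norm_num, pow_add, D.g8, mul_one]
    · rw [zpowers_le]
      exact mem_centralizer_singleton_iff.2 (hyc _ (hP (pow_mem (gmem g h) 4))).symm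
  have hlP : closure ({g, h} : Set G) ⊔ zpowers y ≤ (P : Subgroup G) := sup_le hP (by rw [zpowers_le]; exact hyP)
  have hyS : y ∈ closure ({g, h} : Set G) := by
    by_contra hyS
    have h1 : _root_.Subgroup.closure ({g, h} : Set G) < closure ({g, h} : Set G) ⊔ zpowers y := by
      refine lt_of_le_of_ne le_sup_left fun e => hyS ?_
      rw [e]
      exact mem_sup_right (mem_zpowers y)
    obtain ⟨n, hn⟩ := IsPGroup.iff_card.1 (P.isPGroup'.to_le hlP)
    have h2 := card_dvd_of_le h1.le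
    rw [D.card, hn] at h2
    have h3 : 4 ≤ n := by
      have h4 : (2 : ℕ) ^ 4 ∣ 2 ^ n := by norm_num; exact h2
      exact (Nat.pow_dvd_pow_iff_le_right (by norm_num)).1 h4
    have h4 : n ≠ 4 := by
      rintro rfl
      apply h1.ne
      apply Subgroup.eq_of_le_of_card_ge h1.le
      rw [hn, D.card]
      norm_num
    apply hc
    have h5 : (32 : ℕ) ∣ 2 ^ n := by
      have h6 : (2 : ℕ) ^ 5 ∣ 2 ^ n := pow_dvd_pow 2 (by omega)
      norm_num at h6
      exact h6
    rw [← hn] at h5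
    exact h5.trans (card_dvd_of_le hle)
  have hyz : y = g ^ 4 :=
    (D.center hyS (hyc g (hP (gmem g h))).symm (hyc h (hP (hmem g h))).symm).resolve_left hy1
  refine ⟨P, le_antisymm ?_ hP⟩
  have h1 : (P : Subgroup G) ≤ centralizer ({g ^ 4} : Set G) := by
    intro s hs
    rw [← hyz]
    exact mem_centralizer_singleton_iff.2 (hyc s hs)
  obtain ⟨n, hn⟩ := IsPGroup.iff_card.1 P.isPGroup'
  have h2 : n ≤ 4 := by
    by_contra h3
    apply hc
    have h5 : (32 : ℕ) ∣ 2 ^ n := by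
      have h6 : (2 : ℕ) ^ 5 ∣ 2 ^ n := pow_dvd_pow 2 (by omega)
      norm_num at h6
      exact h6
    rw [← hn] at h5
    exact h5.trans (card_dvd_of_le h1)
  have h3 : Nat.card ↥(P : Subgroup G) ≤ Nat.card ↥(_root_.Subgroup.closure ({g, h} : Set G)) := by
    rw [hn, D.card]
    calc 2 ^ n ≤ 2 ^ 4 := Nat.pow_le_pow_right (by norm_num) h2
      _ = 16 := by norm_num
  exact (Subgroup.eq_of_le_of_card_ge hP h3).ge

end QDat

end Cfsg.Agent.CpAutHNFive.QD

end

-- merged: Cfsg.Agent.CpAutHNFive.HTab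
section

/-!
# The elements of order 5 of `H0 = 2.HS.2` (helper89)

`five_conj` : every element of order 5 of `H0` is conjugate to a power of one of `v1`, `u2`, `v3` (classes 5A, 5B, 5C
of `HS`); the orders of the centralisers of `u2` and `v3` are 1200 and 100.
-/

set_option autoImplicit false
set_option maxRecDepth 100000

namespace Cfsg.Agent.CpAutHNFive.HTab

open Cfsg.Agent.HN.Pres Cfsg.Agent.HN.HS100 Cfsg.Agent.HN.P1408 Cfsg.Agent.HN.H0Basic
open Cfsg.Agent.HN.Syl Cfsg.Agent.HN.Classes Cfsg.Agent.HN.ColChain Cfsg.Agent.HN.CentUp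
open Cfsg.Agent.SporadicA.PermTab (band_eq_true allB allB_iff)
open Subgroup

/-! ### Words -/

/-- class 5A of `HS` -/
def w1 : List ℕ := [0, 2, 4, 2, 0, 2, 2, 2, 1, 3, 3, 4, 2, 4, 0, 2, 4, 1]
/-- class 5B of `HS` -/
def w2 : List ℕ := [2, 2, 1, 2, 2, 0]
/-- class 5C of `HS` -/
def w3 : List ℕ := [0, 2, 0, 3, 3, 4, 2, 4, 0, 2]
/-- generator of a Sylow 5-subgroup -/
def wc : List ℕ := [2, 2, 1, 3, 0, 3, 1, 2, 0]
/-- generator of a Sylow 5-subgroup -/
def wd : List ℕ := [3, 3, 1, 3, 0]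
/-- the commutator -/
def wz : List ℕ := [1, 3, 0, 2, 1, 2, 0, 3, 3, 1, 2, 0, 2, 2, 2, 2, 1, 3, 0, 3, 1, 2, 0, 3, 3, 1, 3, 0]

/-- power of a word -/
def rp (n : ℕ) (w : List ℕ) : List ℕ := Nat.rec [] (fun _ ih => w ++ ih) n

theorem hw_rp (n : ℕ) (w : List ℕ) : hw (rp n w) = hw w ^ n := by
  induction n with
  | zero => rw [pow_zero]; exact hw_nil
  | succ n ih =>
    have h : rp (n + 1) w = w ++ rp n w := rfl
    rw [h, hw_append, ih, pow_succ']

/-- conjugating words -/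
def gP : List (List ℕ) := [
  [0, 4, 3, 0, 3, 0, 3, 1, 2, 4, 2, 1, 2],
  [4, 3, 4, 3, 3, 0, 3, 3, 4, 3, 3, 1, 3, 4, 3, 4, 3],
  [0, 3, 0, 4, 2, 4, 2, 1, 2, 2, 4, 1, 2],
  [0, 2, 0, 2, 1, 2, 2],
  [0, 2, 4, 3, 4, 3, 4, 3, 3, 4, 1, 3, 4, 1],
  [3, 0, 2, 0, 4, 2, 2, 1, 3, 1, 3, 4],
  [0, 4, 3, 4, 3, 0, 3, 4, 3, 1, 3, 3, 4, 2, 4, 3, 1]]
/-- targets -/
def tP : List (List ℕ) := [w1, w3, w3, w2, w3, w2, w3]

/-- the word of `d ^ i c ^ j z ^ k` -/
def elw (i j k : ℕ) : List ℕ := rp i wd ++ (rp j wc ++ rp k wz)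

/-- the table: `(i, j, k, a, b, P, m)` -/
def tb : List (ℕ × ℕ × ℕ × ℕ × ℕ × ℕ × ℕ) := [
  (0, 0, 1, 0, 0, 0, 1), (0, 0, 2, 0, 0, 0, 2), (0, 0, 3, 0, 0, 0, 3), (0, 0, 4, 0, 0, 0, 4), (0, 1, 0, 0, 0, 1, 1), (0, 1, 1, 0, 4, 1, 1),
  (0, 1, 2, 0, 3, 1, 1), (0, 1, 3, 0, 2, 1, 1), (0, 1, 4, 0, 1, 1, 1), (0, 2, 0, 0, 0, 1, 2), (0, 2, 1, 0, 2, 1, 2), (0, 2, 2, 0, 4, 1, 2),
  (0, 2, 3, 0, 1, 1, 2), (0, 2, 4, 0, 3, 1, 2), (0, 3, 0, 0, 0, 1, 3), (0, 3, 1, 0, 3, 1, 3), (0, 3, 2, 0, 1, 1, 3), (0, 3, 3, 0, 4, 1, 3),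
  (0, 3, 4, 0, 2, 1, 3), (0, 4, 0, 0, 0, 1, 4), (0, 4, 1, 0, 1, 1, 4), (0, 4, 2, 0, 2, 1, 4), (0, 4, 3, 0, 3, 1, 4), (0, 4, 4, 0, 4, 1, 4),
  (1, 0, 0, 0, 0, 2, 1), (1, 0, 1, 1, 0, 2, 1), (1, 0, 2, 2, 0, 2, 1), (1, 0, 3, 3, 0, 2, 1), (1, 0, 4, 4, 0, 2, 1), (1, 1, 0, 0, 1, 3, 1),
  (1, 1, 1, 0, 0, 3, 1), (1, 1, 2, 0, 4, 3, 1), (1, 1, 3, 0, 3, 3, 1), (1, 1, 4, 0, 2, 3, 1), (1, 2, 0, 0, 1, 4, 1), (1, 2, 1, 0, 3, 4, 1),
  (1, 2, 2, 0, 0, 4, 1), (1, 2, 3, 0, 2, 4, 1), (1, 2, 4, 0, 4, 4, 1), (1, 3, 0, 0, 1, 5, 1), (1, 3, 1, 0, 4, 5, 1), (1, 3, 2, 0, 2, 5, 1),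
  (1, 3, 3, 0, 0, 5, 1), (1, 3, 4, 0, 3, 5, 1), (1, 4, 0, 0, 1, 6, 1), (1, 4, 1, 0, 2, 6, 1), (1, 4, 2, 0, 3, 6, 1), (1, 4, 3, 0, 4, 6, 1),
  (1, 4, 4, 0, 0, 6, 1), (2, 0, 0, 0, 0, 2, 2), (2, 0, 1, 3, 0, 2, 2), (2, 0, 2, 1, 0, 2, 2), (2, 0, 3, 4, 0, 2, 2), (2, 0, 4, 2, 0, 2, 2),
  (2, 1, 0, 0, 4, 5, 2), (2, 1, 1, 0, 3, 5, 2), (2, 1, 2, 0, 2, 5, 2), (2, 1, 3, 0, 1, 5, 2), (2, 1, 4, 0, 0, 5, 2), (2, 2, 0, 0, 4, 3, 2),
  (2, 2, 1, 0, 1, 3, 2), (2, 2, 2, 0, 3, 3, 2), (2, 2, 3, 0, 0, 3, 2), (2, 2, 4, 0, 2, 3, 2), (2, 3, 0, 0, 4, 6, 2), (2, 3, 1, 0, 2, 6, 2),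
  (2, 3, 2, 0, 0, 6, 2), (2, 3, 3, 0, 3, 6, 2), (2, 3, 4, 0, 1, 6, 2), (2, 4, 0, 0, 4, 4, 2), (2, 4, 1, 0, 0, 4, 2), (2, 4, 2, 0, 1, 4, 2),
  (2, 4, 3, 0, 2, 4, 2), (2, 4, 4, 0, 3, 4, 2), (3, 0, 0, 0, 0, 2, 3), (3, 0, 1, 2, 0, 2, 3), (3, 0, 2, 4, 0, 2, 3), (3, 0, 3, 1, 0, 2, 3),
  (3, 0, 4, 3, 0, 2, 3), (3, 1, 0, 0, 2, 4, 3), (3, 1, 1, 0, 1, 4, 3), (3, 1, 2, 0, 0, 4, 3), (3, 1, 3, 0, 4, 4, 3), (3, 1, 4, 0, 3, 4, 3),
  (3, 2, 0, 0, 2, 6, 3), (3, 2, 1, 0, 4, 6, 3), (3, 2, 2, 0, 1, 6, 3), (3, 2, 3, 0, 3, 6, 3), (3, 2, 4, 0, 0, 6, 3), (3, 3, 0, 0, 2, 3, 3),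
  (3, 3, 1, 0, 0, 3, 3), (3, 3, 2, 0, 3, 3, 3), (3, 3, 3, 0, 1, 3, 3), (3, 3, 4, 0, 4, 3, 3), (3, 4, 0, 0, 2, 5, 3), (3, 4, 1, 0, 3, 5, 3),
  (3, 4, 2, 0, 4, 5, 3), (3, 4, 3, 0, 0, 5, 3), (3, 4, 4, 0, 1, 5, 3), (4, 0, 0, 0, 0, 2, 4), (4, 0, 1, 4, 0, 2, 4), (4, 0, 2, 3, 0, 2, 4),
  (4, 0, 3, 2, 0, 2, 4), (4, 0, 4, 1, 0, 2, 4), (4, 1, 0, 0, 0, 6, 4), (4, 1, 1, 0, 4, 6, 4), (4, 1, 2, 0, 3, 6, 4), (4, 1, 3, 0, 2, 6, 4),
  (4, 1, 4, 0, 1, 6, 4), (4, 2, 0, 0, 0, 5, 4), (4, 2, 1, 0, 2, 5, 4), (4, 2, 2, 0, 4, 5, 4), (4, 2, 3, 0, 1, 5, 4), (4, 2, 4, 0, 3, 5, 4),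
  (4, 3, 0, 0, 0, 4, 4), (4, 3, 1, 0, 3, 4, 4), (4, 3, 2, 0, 1, 4, 4), (4, 3, 3, 0, 4, 4, 4), (4, 3, 4, 0, 2, 4, 4), (4, 4, 0, 0, 0, 3, 4),
  (4, 4, 1, 0, 1, 3, 4), (4, 4, 2, 0, 2, 3, 4), (4, 4, 3, 0, 3, 3, 4), (4, 4, 4, 0, 4, 3, 4)]

/-- conjugating word of an entry -/
def cwd (e : ℕ × ℕ × ℕ × ℕ × ℕ × ℕ × ℕ) : List ℕ :=
  rp e.2.2.2.1 wc ++ (rp e.2.2.2.2.1 wd ++ gP.getD e.2.2.2.2.2.1 [])

/-- the check of an entry -/
def chkE (e : ℕ × ℕ × ℕ × ℕ × ℕ × ℕ × ℕ) : Bool :=
  eqw (elw e.1 e.2.1 e.2.2.1 ++ cwd e) (cwd e ++ rp e.2.2.2.2.2.2 (tP.getD e.2.2.2.2.2.1 []))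

theorem tb_ok : ∀ e ∈ tb, chkE e = true ∧ e.2.2.2.2.2.1 < 7 ∧ 1 ≤ e.2.2.2.2.2.2 ∧ e.2.2.2.2.2.2 < 5 := by
  decide +kernel

theorem tb_cover' : allB (fun i => allB (fun j => allB (fun k => (Nat.beq i 0 && Nat.beq j 0 && Nat.beq k 0) ||
    tb.any (fun e => Nat.beq e.1 i && Nat.beq e.2.1 j && Nat.beq e.2.2.1 k)) 5) 5) 5 = true := by
  decide +kernel

theorem tb_cover : ∀ i < 5, ∀ j < 5, ∀ k < 5, (i = 0 ∧ j = 0 ∧ k = 0) ∨ ∃ e ∈ tb, e.1 = i ∧ e.2.1 = j ∧ e.2.2.1 = k := by
  intro i hi j hj k hk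
  have h := (allB_iff _ _).1 ((allB_iff _ _).1 ((allB_iff _ _).1 tb_cover' i hi) j hj) k hk
  rw [Bool.or_eq_true] at h
  rcases h with h | h
  · left
    rw [Bool.and_eq_true, Bool.and_eq_true] at h
    exact ⟨Nat.eq_of_beq_eq_true h.1.1, Nat.eq_of_beq_eq_true h.1.2, Nat.eq_of_beq_eq_true h.2⟩
  · right
    obtain ⟨e, he, h1⟩ := List.any_eq_true.1 h
    rw [Bool.and_eq_true, Bool.and_eq_true] at h1
    exact ⟨e, he, Nat.eq_of_beq_eq_true h1.1.1, Nat.eq_of_beq_eq_true h1.1.2, Nat.eq_of_beq_eq_true h1.2⟩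

theorem tP_cases : ∀ P < 7, tP.getD P [] = w1 ∨ tP.getD P [] = w2 ∨ tP.getD P [] = w3 := by decide

/-- elements of the table -/
theorem table {i j k : ℕ} (hi : i < 5) (hj : j < 5) (hk : k < 5) (h0 : ¬ (i = 0 ∧ j = 0 ∧ k = 0)) :
    ∃ (g : H0) (m : ℕ), 1 ≤ m ∧ m < 5 ∧ ∃ w, (w = w1 ∨ w = w2 ∨ w = w3) ∧
      g⁻¹ * (hw wd ^ i * hw wc ^ j * hw wz ^ k) * g = hw w ^ m := by
  obtain ⟨e, he, rfl, rfl, rfl⟩ := (tb_cover i hi j hj k hk).resolve_left h0
  obtain ⟨h1, h2, h3, h4⟩ := tb_ok e he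
  refine ⟨hw (cwd e), e.2.2.2.2.2.2, h3, h4, tP.getD e.2.2.2.2.2.1 [], tP_cases _ h2, ?_⟩
  have h5 := hw_eq h1
  rw [hw_append, hw_append, elw, hw_append, hw_append, hw_rp, hw_rp, hw_rp, hw_rp] at h5
  rw [mul_assoc, mul_assoc _ (hw wc ^ _), h5, inv_mul_cancel_left]

theorem c5 : hw wc ^ 5 = 1 := by
  rw [← hw_rp, ← hw_nil]
  exact hw_eq (by decide +kernel)
theorem d5 : hw wd ^ 5 = 1 := by
  rw [← hw_rp, ← hw_nil]
  exact hw_eq (by decide +kernel)
theorem z5 : hw wz ^ 5 = 1 := by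
  rw [← hw_rp, ← hw_nil]
  exact hw_eq (by decide +kernel)
theorem cz : hw wc * hw wz = hw wz * hw wc := by
  rw [← hw_append, ← hw_append]
  exact hw_eq (by decide +kernel)
theorem dz : hw wd * hw wz = hw wz * hw wd := by
  rw [← hw_append, ← hw_append]
  exact hw_eq (by decide +kernel)
theorem cd : hw wc * hw wd = hw wd * (hw wc * hw wz) := by
  rw [← hw_append, ← hw_append, ← hw_append]
  exact hw_eq (by decide +kernel)
theorem z1 : hw wz ≠ 1 := by
  rw [← hw_nil]
  exact hw_ne (p := 3) (by decide +kernel) (by decide) (by norm_num) (by decide +kernel)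

end Cfsg.Agent.CpAutHNFive.HTab

end

-- merged: Cfsg.Agent.CpAutHNFive.HCert
section

/-!
# Centralisers in `H0` of the elements of order 5 of the classes 5B, 5C of `HS` (helper89)

* `card_le_two`, `card_le_three` : `|C(w2)| ≤ 1200`, `|C(w3)| ≤ 100` (kernel-checked coloured chains).
-/

set_option autoImplicit false
set_option maxRecDepth 100000

namespace Cfsg.Agent.CpAutHNFive.HCert

open Cfsg.Agent.HN.Pres Cfsg.Agent.HN.HS100 Cfsg.Agent.HN.P1408 Cfsg.Agent.HN.H0Basic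
open Cfsg.Agent.HN.Syl Cfsg.Agent.HN.Classes Cfsg.Agent.HN.ColChain Cfsg.Agent.HN.CentUp
open Cfsg.Agent.CpAutHNFive.HTab
open Cfsg.Agent.SporadicA.PermTab (band_eq_true allB allB_iff)
open Subgroup

/-- tables for `cU` -/
def cUV : List ℕ := [0xc01182581f0121343101801818c0d83a0900a01784102a05c29029032090108050a80683082e0160402002a0ac10c248590061082282705804c1983706a138000220561300305f0460f0088390760c82883e0ae0280e80e0940c02d8140240d80102007a154168080a01600204701e1680680102c0782785e0380941a03f07014c220310b80982e807, 0x3e0402a012068084230080bc1801e81305c0f8118490081400b85105a0382d8440821542583c0380042c8320501583081b0b810c2005707203c15835000090038300760142980909409c06833058130290420900940101e03417c060470b41381301408a0bc0883f0520e81880b02c18c2785d0b00d80c84d0400741100306e0541500603002831038]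
/-- chain for `cU` -/
def cUBS : List (ℕ × ℕ × ℕ × ℕ) := [
  (0, 100, 0x1000000010000000100000001000000010000000100000001000000010000000100000001000000010000000100000001000000010000000100000001000000010000000100000001000000010000000100000001000000010000000100000001000000010000000100000001000000010000000100000001000000010000000100000001000000010000000100000001000000010000000100000001000000010000000100000001000000010000000100000001000000010000000100000001000000010000000100000001000000010000000100000001000000010000000100000001000000010000000100000001000000010000000100000001000000010000000100000001000000010000000100000001000000010000000100000001000000010000000100000001000000010000000100000001000000010000000100000001000000010000000100000001000000010000000100000001000000010000000100000001000000010000000100000001000000010000000100000001000000010000000100000001000, 0x16000000010000000100000001000),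
  (2, 3, 0x46535f9112935f9112935f9046535f9046535f9046535f9077145f905ca6bf2046535f9046535f9112935f9046535f905ca6bf2149905f9046535f9046535f9149905f9046535f9046535f9046535f9112935f9046535f9046535f90a897bf205ca6bf2112935f9077145f9077145f9046535f905ca6bf2046535f905ca6bf20a897bf2197e6bf2046535f9077145f90a897bf21eb93bf2046535f90a897bf2046535f9046535f9077145f9252fa1eb046535f9046535f9046535f9046535f9112935f9112935f9046535f9046535f9046535f9112935f9046535f9046535f905ca6bf2077145f9046535f91eb93bf2112935f9149905f905ca6bf2046535f9077145f9046535f9046535f9197e6bf2046535f9046535f9046535f9149905f905ca6bf205ca6bf205ca6bf2077145f9046535f9046535f9197e6bf205ca6bf2046535f9046535f9046535f9046535f9046535f9046535f9077145f9046535f9077145f9197e6bf2046535f9112935f91f8535f9077145f9112935f905ca6bf2112935f9077145f9046535f90a95b5f9, 0xc9ba673c077145f9197e6bf2149905f9),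
  (1, 2, 0x3a195b722ee63c422ee63c423a195b723a195b723a195b7214a4e8fc304839a33a195b723a195b722ee63c420df28b32124e325d32aff0f50df28b323a195b7232aff0f51ff1b4721ff1b4720df28b322ee63c4218ad80dc3a195b72195050d6304839a322346be314a4e8fc33c7e59b12670a223b562cd53a195b72124e325d195050d60425f8233a195b7214a4e8fc195050d6294f133b3a195b72195050d60df28b3218ad80dc33c7e59b05344e933a195b720af00fc90af00fc918ad80dc22346be32ee63c4212670a223a195b7218ad80dc2ee63c4218ad80dc18ad80dc124e325d33c7e59b0187f533294f133b22346be31549f26e304839a31883a0e233c7e59b1883a0e23a195b72106fe06e3a195b723a195b723a195b7232aff0f5304839a3124e325d3b562cd514a4e8fc12670a2218ad80dc106fe06e3b5fe58f1883a0e23a195b721883a0e218ad80dc0af00fc93a195b7214a4e8fc3a195b7233c7e59b13d82f8b0af00fc92ee63c420325001533c7e59b22346be33b5fe58f2ee63c4232dc035d1883a0e23b86af19, 0x3024f8da61883a0e22ee63c4214a4e8fc)]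
/-- last table for `cU` -/
def cUT : ℕ := 0x1c4d473e2db47b1c20e3fdf11cb5142721be72b113a1e112141d242602f443a313a1e11213a1e112247059d21c3d90b50ead8e9c39e7386c1c74533c13a1e1122b22a9e00a11c3fd2fbc44961c3d90b53af588d5347b164d13a1e1121e0f8a6402f443a31265305803c8295a222750e6029294ef0d186e3d21be72b1311a942e34f0a86525b6568713a1e1122a4bd39c34f0a86513c875c11c4d473e3a31c7d21c3d90b506119154222750e6332d7e2813a1e1122949cca80c494589061191540a5a1a9220e3fdf1187c7a683b54c5fc11246de720e3fdf12fd0c54a347b164d0ead8e9c27125bfd2e3ddda818314c3e0a5a1a921664ddd50ef19afb1c507ff6222750e62b9b6e9d13a1e1122deaf35214124cf513a1e1122dbda8a139e7386c397599e0272b59461e20b37a29846458029294ef347b164d2eec57820e06a3ac2b9b6e9d2dbda8a1243d94e5347b164d0c57d9c613a1e1122a4bd39c13a1e112222750e6359bfccf0c57d9c6247059d21b99e58227125bfd12d0938d09e82c0420e3fdf1073507b20a0354a1144327b9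
/-- ranks for `cU` -/
def cUR : ℕ := 0xa6178220160141502e04309a164090620900200203a00c0e41b05501c1180f8260b40940e82c06015c0981e02e0a42880305406c1e82d0c21280883e0661401a84508013c190470160400385209c0fc108370460601785f0381741c04100a008318000b00342582b0280c40a8560500d00c8420340ec060490780b8110090b60800782404e00426060
/-- order for `cU` -/
def cUO : ℕ := 0x3a1601d8000481881105d00e12c2d01b08c0502805e0c60b0208360640ac2d8010320e8060570601381a0610b8040100330540e01e80b01c150290210501441a81206e0c40b04704a0281e0480300fc210130061302500404e0241480609a1102482307c03c088260861800a81708a1641c82e00a13c0d00d05e17c0405605a14c0f8550800780101c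
/-- tables for `cV` -/
def cVV : List ℕ := [0x7c1641103a05e0fc2682e040138288580901142085b05a0ec2d01209e1880580d0a41800a04904c12c1e05008607c0d84c0580142001603a0d41900c02e15c1a04a0001541383003c04c0c00e0060241e81504a110140610ac0cc1b8110560082305f07214c0200a07008c1883605411c0305e00e0401482101e0682e0420ba1500c86301007000824, 0xa1441983503c0b0058130221882d0580920f00d8200300742704709e164078290760e81b0140881480b0120860ac1c80d01c0642602308c0d02a82107012025060048104128300040a805010010170200310501400a82208a0000b8060060702582f0640b43181a018158138570120982a03f0ba1781e83700e14c1701f09a16c0203e08417c00861]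
/-- chain for `cV` -/
def cVBS : List (ℕ × ℕ × ℕ × ℕ) := [
  (10, 25, 0x100000001000000010000000100000001000000010000000100000001f4000001f400000100000001000000044a800001000000010000000133100001f4000001000000010000000100000001331000044a80000100000001000000010000000100000001000000010000000100000001331000010000000100000001331000044a8000010000000133100001000000010000000100000001000000010000000100000001000000013310000100000001000000010000000100000001000000010000000133100001000000044a80000100000001f4000001000000010000000100000001f4000001000000010000000100000001331000010000000100000001000000010000000100000001f4000001000000010000000100000001000000013310000100000001000000010000000100000001000000010000000100000001f400000133100001f400000100000001000000010000000100000001000000010000000100000001f40000010000000100000001f4000001000000010000000100000001000000044a800001000, 0x21314000010000000100000001000),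
  (2, 2, 0x46535f9046535f9112935f9046535f9046535f9046535f9112935f906f75c3206f75c32112935f9046535f9220e279a046535f9112935f90ad66e231aca2832252fa1eb077145f9077145f907a2d52a0649e9e105ca6bf205ca6bf2046535f9046535f9046535f9112935f9077145f90ad66e2305ca6bf205ca6bf206157af30649e9e1046535f9115f72ba046535f9046535f9046535f9046535f9046535f9149905f9046535f907a2d52a149905f9046535f9046535f9046535f9046535f9112935f9115f72ba077145f90649e9e1046535f90525f639046535f9046535f9046535f915790139046535f9046535f9112935f9115f72ba05ca6bf2077145f9077145f90a897bf205ca6bf20525f639046535f9046535f9197e6bf2046535f906157af31f8535f9046535f9046535f9077145f9046535f9046535f905ca6bf208381539115f72ba08381539046535f9112935f9046535f9046535f9197e6bf2077145f90a95b5f91aca2832046535f90a897bf215790139046535f9046535f9046535f9046535f9220e279a05ca6bf2, 0xdff7b0c6046535f9046535f9046535f9)]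
/-- last table for `cV` -/
def cVT : ℕ := 0x12670a223a195b720dbc520c18ad80dc2ad02ba33a195b720dbc520c39abdc6d148a4dac2262bac63a195b72323c110212670a222ee63c42158eb06e332f85fb025e840a0c8749ba02e6e129149f2dff324591d335443845304839a33a195b7218ad80dc0df28b322ee63c4233c7e59b07cdf45805b4cd62304839a338343118324591d33a195b7208ec451e1883a0e23a195b721883a0e218ad80dc3a195b721500c0251883a0e225fbb2a232aff0f53a195b720187f5330af00fc918ad80dc22346be313d795da2ddb53b7324591d33a195b72154ec7b63a195b723a195b723a195b722d5c57910af00fc91883a0e22ba2b7a613d795da124e325d32b2ca2514a4e8fc195050d6304839a32cc9dfa43a195b723a195b721395fb341bbedc3f091868b33abdd36b0187f5333a195b7214a4e8fc3a195b720af00fc93b562cd51e89d5c908ec451e023e427d3a195b7222346be33a195b723a195b720425f82314a4e8fc1c72971805d6b33f3a195b7214bd08b00a0104520af00fc91ff1b4723a195b721d61ee273b7c62ee3b5fe58f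
/-- ranks for `cV` -/
def cVR : ℕ := 0xbe058248340020e8210390260640e8630880a01501005a1680f03807e0281b05e04e16c2782f04a1300d02c06202c25062052148198150c20b81e0480ac0901a84306411c0a05701809815808030140270300b214c0885c06e06c0305d01c070200020440243002000e05c108120a2104228030a803c1e81f07c01426846046160258550080000683b
/-- order for `cV` -/
def cVO : ℕ := 0xb01001d8190c613010024094148138060600dc0200f04c0f80982a0920a40484600a10430838064020088570681740901d09e02c068390001782e0500461341a86007a0cc218280900e82984405a1541f8560960b82383600e06c0a8180181442c81e0441142d02b02c1881e0310b60501285401c07c0082f0841380d02c02e084050030200702f802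

theorem prod_U : prodM cUBS = 600 := by decide +kernel

theorem cU_le : Nat.card (cenA [w2, w2 ++ w2]) ≤ 600 := by
  rw [← prod_U]
  exact card_cenA_le (VS := cUV) (bs := cUBS) (T := cUT) (R := cUR) (O := cUO) (by decide +kernel) (by decide +kernel)

theorem prod_V : prodM cVBS = 50 := by decide +kernel

theorem cV_le : Nat.card (cenA [w3, w3 ++ w3]) ≤ 50 := by
  rw [← prod_V]
  exact card_cenA_le (VS := cVV) (bs := cVBS) (T := cVT) (R := cVR) (O := cVO) (by decide +kernel) (by decide +kernel)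

theorem centralizer_wset (w : List ℕ) : centralizer (wset [w, w ++ w]) = centralizer ({hw w} : Set H0) := by
  ext g
  rw [mem_centralizer_iff, mem_centralizer_singleton_iff]
  constructor
  · intro h
    exact (h (hw w) ⟨w, by simp, rfl⟩).symm
  · rintro h _ ⟨v, hv, rfl⟩
    simp only [List.mem_cons, List.not_mem_nil, or_false] at hv
    have h1 : Commute (hw w) g := h.symm
    rcases hv with rfl | rfl
    · exact h1.eq
    · rw [hw_append]
      exact (h1.mul_left h1).eq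

/-- `|C(w2)| ≤ 1200` -/
theorem card_le_two : Nat.card ↥(centralizer ({hw w2} : Set H0)) ≤ 1200 := by
  have h := card_centralizer_le cU_le
  rwa [centralizer_wset] at h

/-- `|C(w3)| ≤ 100` -/
theorem card_le_three : Nat.card ↥(centralizer ({hw w3} : Set H0)) ≤ 100 := by
  have h := card_centralizer_le cV_le
  rwa [centralizer_wset] at h

end Cfsg.Agent.CpAutHNFive.HCert

end

-- merged: Cfsg.Agent.CpAutHNFive.HClass
section

/-!
# The classes of elements of order 5 of `H0 = 2.HS.2`: `five_conj` (helper89)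
-/

set_option autoImplicit false
set_option maxRecDepth 100000

namespace Cfsg.Agent.CpAutHNFive.HTab

open Cfsg.Agent.HN.Pres Cfsg.Agent.HN.HS100 Cfsg.Agent.HN.P1408 Cfsg.Agent.HN.H0Basic
open Subgroup

section NF

variable {G : Type*} [Group G] {c d z : G}

theorem mul_pow_comm (hcz : c * z = z * c) (hdz : d * z = z * d) (hcd : c * d = d * (c * z)) (b : ℕ) :
    c * d ^ b = d ^ b * c * z ^ b := by
  induction b with
  | zero => simp
  | succ b ih =>
    have hzk : z ^ b * d = d * z ^ b := ((show Commute d z from hdz).pow_right b).eq.symm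
    calc c * d ^ (b + 1) = c * d ^ b * d := by rw [pow_succ, mul_assoc]
      _ = d ^ b * c * (z ^ b * d) := by rw [ih]; group
      _ = d ^ b * (c * d) * z ^ b := by rw [hzk]; group
      _ = d ^ (b + 1) * c * z ^ (b + 1) := by rw [hcd, pow_succ, pow_succ' z]; group

theorem pow_comm_pow (hcz : c * z = z * c) (hdz : d * z = z * d) (hcd : c * d = d * (c * z)) (a b : ℕ) :
    c ^ a * d ^ b = d ^ b * c ^ a * z ^ (a * b) := by
  induction a with
  | zero => simp
  | succ a ih =>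
    have hzk : z ^ b * c ^ a = c ^ a * z ^ b := ((show Commute c z from hcz).pow_pow a b).eq.symm
    calc c ^ (a + 1) * d ^ b = c * (c ^ a * d ^ b) := by rw [pow_succ', mul_assoc]
      _ = (c * d ^ b) * c ^ a * z ^ (a * b) := by rw [ih]; group
      _ = d ^ b * c * (z ^ b * c ^ a) * z ^ (a * b) := by rw [mul_pow_comm hcz hdz hcd]; group
      _ = d ^ b * (c * c ^ a) * (z ^ b * z ^ (a * b)) := by rw [hzk]; group
      _ = d ^ b * c ^ (a + 1) * z ^ ((a + 1) * b) := by
        rw [← pow_succ', ← pow_add]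
        congr 2
        ring

theorem inv_pow5 {g : G} (hg : g ^ 5 = 1) (i : ℕ) : (g ^ i)⁻¹ = g ^ (4 * i) := by
  rw [inv_eq_iff_mul_eq_one, ← pow_add, show i + 4 * i = 5 * i by ring, pow_mul, hg, one_pow]

theorem mem_nf' (hc : c ^ 5 = 1) (hd : d ^ 5 = 1) (hz : z ^ 5 = 1) (hcz : c * z = z * c) (hdz : d * z = z * d)
    (hcd : c * d = d * (c * z)) {x : G} (hx : x ∈ _root_.Subgroup.closure ({c, d} : Set G)) :
    ∃ i j k : ℕ, x = d ^ i * c ^ j * z ^ k := by
  have key : ∀ i j k i' j' k' : ℕ, d ^ i * c ^ j * z ^ k * (d ^ i' * c ^ j' * z ^ k') =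
      d ^ (i + i') * c ^ (j + j') * z ^ (k + k' + j * i') := by
    intro i j k i' j' k'
    have h1 : z ^ k * d ^ i' = d ^ i' * z ^ k := ((show Commute d z from hdz).pow_pow i' k).eq.symm
    have h2 : z ^ k * c ^ j' = c ^ j' * z ^ k := ((show Commute c z from hcz).pow_pow j' k).eq.symm
    have h3 : z ^ (j * i') * c ^ j' = c ^ j' * z ^ (j * i') := ((show Commute c z from hcz).pow_pow j' (j * i')).eq.symm
    calc d ^ i * c ^ j * z ^ k * (d ^ i' * c ^ j' * z ^ k')
        = d ^ i * c ^ j * (z ^ k * d ^ i') * c ^ j' * z ^ k' := by group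
      _ = d ^ i * (c ^ j * d ^ i') * (z ^ k * c ^ j') * z ^ k' := by rw [h1]; group
      _ = d ^ i * (d ^ i' * c ^ j * z ^ (j * i')) * (c ^ j' * z ^ k) * z ^ k' := by
        rw [pow_comm_pow hcz hdz hcd, h2]
      _ = d ^ i * d ^ i' * c ^ j * (z ^ (j * i') * c ^ j') * z ^ k * z ^ k' := by group
      _ = (d ^ i * d ^ i') * (c ^ j * c ^ j') * (z ^ (j * i') * z ^ k * z ^ k') := by rw [h3]; group
      _ = d ^ (i + i') * c ^ (j + j') * z ^ (k + k' + j * i') := by
        rw [← pow_add, ← pow_add, ← pow_add, ← pow_add]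
        congr 2
        ring
  induction hx using closure_induction with
  | mem y hy =>
    rcases hy with rfl | rfl
    · exact ⟨0, 1, 0, by simp⟩
    · exact ⟨1, 0, 0, by simp⟩
  | one => exact ⟨0, 0, 0, by simp⟩
  | mul a b _ _ ha hb =>
    obtain ⟨i, j, k, rfl⟩ := ha
    obtain ⟨i', j', k', rfl⟩ := hb
    exact ⟨_, _, _, key i j k i' j' k'⟩
  | inv a _ ha =>
    obtain ⟨i, j, k, rfl⟩ := ha
    refine ⟨4 * i, 4 * j, 4 * k + (4 * j) * (4 * i), ?_⟩
    have h2 : z ^ (4 * k) * (c ^ (4 * j) * d ^ (4 * i)) = c ^ (4 * j) * d ^ (4 * i) * z ^ (4 * k) := by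
      have h3 : Commute z (c ^ (4 * j) * d ^ (4 * i)) :=
        ((show Commute z c from hcz.symm).pow_right _).mul_right ((show Commute z d from hdz.symm).pow_right _)
      exact (h3.pow_left _).eq
    calc (d ^ i * c ^ j * z ^ k)⁻¹ = (z ^ k)⁻¹ * ((c ^ j)⁻¹ * (d ^ i)⁻¹) := by group
      _ = z ^ (4 * k) * (c ^ (4 * j) * d ^ (4 * i)) := by rw [inv_pow5 hc, inv_pow5 hd, inv_pow5 hz]
      _ = d ^ (4 * i) * c ^ (4 * j) * z ^ ((4 * j) * (4 * i)) * z ^ (4 * k) := by
        rw [h2, pow_comm_pow hcz hdz hcd]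
      _ = _ := by rw [mul_assoc, ← pow_add, add_comm]

theorem pow_mod5 {g : G} (hg : g ^ 5 = 1) (i : ℕ) : g ^ i = g ^ (i % 5) := by
  conv_lhs => rw [← Nat.div_add_mod i 5, pow_add, pow_mul, hg, one_pow, one_mul]

theorem mem_nf (hc : c ^ 5 = 1) (hd : d ^ 5 = 1) (hz : z ^ 5 = 1) (hcz : c * z = z * c) (hdz : d * z = z * d)
    (hcd : c * d = d * (c * z)) {x : G} (hx : x ∈ _root_.Subgroup.closure ({c, d} : Set G)) :
    ∃ i < 5, ∃ j < 5, ∃ k < 5, x = d ^ i * c ^ j * z ^ k := by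
  obtain ⟨i, j, k, rfl⟩ := mem_nf' hc hd hz hcz hdz hcd hx
  refine ⟨i % 5, Nat.mod_lt _ (by norm_num), j % 5, Nat.mod_lt _ (by norm_num), k % 5, Nat.mod_lt _ (by norm_num), ?_⟩
  rw [← pow_mod5 hd, ← pow_mod5 hc, ← pow_mod5 hz]

theorem card_closure [Finite G] (hc : c ^ 5 = 1) (hd : d ^ 5 = 1) (hz : z ^ 5 = 1) (hz1 : z ≠ 1) (hcz : c * z = z * c)
    (hdz : d * z = z * d) (hcd : c * d = d * (c * z)) : Nat.card ↥(_root_.Subgroup.closure ({c, d} : Set G)) = 5 ^ 3 := by
  have hcS : c ∈ _root_.Subgroup.closure ({c, d} : Set G) := _root_.Subgroup.subset_closure (by simp)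
  have hdS : d ∈ _root_.Subgroup.closure ({c, d} : Set G) := _root_.Subgroup.subset_closure (by simp)
  have hzS : z ∈ closure ({c, d} : Set G) := by
    have h : z = c⁻¹ * (d⁻¹ * (c * d)) := by rw [hcd]; group
    rw [h]
    exact mul_mem (inv_mem hcS) (mul_mem (inv_mem hdS) (mul_mem hcS hdS))
  have h1 : 5 ^ 3 ∣ Nat.card ↥(_root_.Subgroup.closure ({c, d} : Set G)) :=
    CpAut.LyFiveRow.cubed_dvd (a := ⟨c, hcS⟩) (b := ⟨d, hdS⟩) (z := ⟨z, hzS⟩) (Subtype.ext hc) (Subtype.ext hd)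
      (Subtype.ext hz) (fun h => hz1 (congrArg Subtype.val h)) (Subtype.ext hcz) (Subtype.ext hdz) (Subtype.ext hcd)
  have h2 : Nat.card ↥(closure ({c, d} : Set G)) ≤ Nat.card (Fin 5 × Fin 5 × Fin 5) := by
    refine Nat.card_le_card_of_surjective (fun t : Fin 5 × Fin 5 × Fin 5 =>
      (⟨d ^ (t.1 : ℕ) * c ^ (t.2.1 : ℕ) * z ^ (t.2.2 : ℕ),
        mul_mem (mul_mem (pow_mem hdS _) (pow_mem hcS _)) (pow_mem hzS _)⟩ : ↥(closure ({c, d} : Set G)))) ?_
    rintro ⟨x, hx⟩
    obtain ⟨i, hi, j, hj, k, hk, rfl⟩ := mem_nf hc hd hz hcz hdz hcd hx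
    exact ⟨(⟨i, hi⟩, ⟨j, hj⟩, ⟨k, hk⟩), rfl⟩
  rw [Nat.card_prod, Nat.card_prod, Nat.card_fin] at h2
  exact Nat.le_antisymm (by norm_num only [] at h2 ⊢; exact h2) (Nat.le_of_dvd Nat.card_pos h1)

end NF

/-- **The elements of order 5 of `H0`.** -/
theorem five_conj {x : H0} (hx : orderOf x = 5) : ∃ (g : H0) (m : ℕ), 1 ≤ m ∧ m < 5 ∧
    ∃ w, (w = w1 ∨ w = w2 ∨ w = w3) ∧ g * x * g⁻¹ = hw w ^ m := by
  have : Fact (Nat.Prime 5) := ⟨Nat.prime_five⟩
  have hcard := card_closure c5 d5 z5 z1 cz dz cd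
  have hfac : (Nat.card H0).factorization 5 = 3 := by
    rw [Cfsg.Agent.HN.H0Basic.card_H0, show (177408000 : ℕ) = 5 ^ 3 * 1419264 by norm_num]
    have h2 : (1419264 : ℕ).factorization 5 = 0 := Nat.factorization_eq_zero_of_not_dvd (by norm_num)
    rw [Nat.factorization_mul (by norm_num) (by norm_num), Nat.Prime.factorization_pow Nat.prime_five,
      Finsupp.add_apply, h2, Finsupp.single_eq_same]
  let P : Sylow 5 H0 := Sylow.ofCard (_root_.Subgroup.closure ({hw wc, hw wd} : Set H0)) (by rw [hfac]; exact hcard)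
  have hxp : IsPGroup 5 ↥(zpowers x) := IsPGroup.of_card (n := 1) (by rw [Nat.card_zpowers, hx, pow_one])
  obtain ⟨Q, hQ⟩ := hxp.exists_le_sylow
  obtain ⟨g, hg⟩ := MulAction.exists_smul_eq H0 Q P
  have h1 : g * x * g⁻¹ ∈ (P : Subgroup H0) := by
    rw [← hg, Sylow.coe_subgroup_smul]
    exact ⟨x, hQ (mem_zpowers x), rfl⟩
  have h2 : g * x * g⁻¹ ∈ closure ({hw wc, hw wd} : Set H0) := h1
  obtain ⟨i, hi, j, hj, k, hk, h3⟩ := mem_nf c5 d5 z5 cz dz cd h2
  have h0 : ¬ (i = 0 ∧ j = 0 ∧ k = 0) := by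
    rintro ⟨rfl, rfl, rfl⟩
    rw [pow_zero, pow_zero, pow_zero, one_mul, one_mul, conj_eq_one_iff] at h3
    rw [h3, orderOf_one] at hx
    norm_num at hx
  obtain ⟨u, m, hm, hm5, w, hw', h4⟩ := table hi hj hk h0
  refine ⟨u⁻¹ * g, m, hm, hm5, w, hw', ?_⟩
  rw [← h4, ← h3]
  group

end Cfsg.Agent.CpAutHNFive.HTab

end

-- merged: Cfsg.Agent.CpAutHNFive.HFacts
section

/-!
# Centralisers in `H0 = 2.HS.2` of elements of order 5 (helper89)

* `not_dvd_two` : `32 ∤ |C(w2)|`; `qdat` : a quasi-dihedral subgroup of order 16 of `C(w2)` with centre `⟨τ⟩`;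
* `card_three` : `|C(w3)| = 100`; `inv_three` : the involutions `≠ τ` of `C(w3)` are conjugate to `d` or `d τ`;
* `exists_eight` : `8` divides `|C(w1) ∩ C(a)|`.
-/

set_option autoImplicit false
set_option maxRecDepth 100000

namespace Cfsg.Agent.CpAutHNFive.HFacts

open Cfsg.Agent.HN.Pres Cfsg.Agent.HN.HS100 Cfsg.Agent.HN.P1408 Cfsg.Agent.HN.H0Basic
open Cfsg.Agent.HN.Syl
open Cfsg.Agent.CpAutHNFive.HTab Cfsg.Agent.CpAutHNFive.HCert
open Subgroup

/-! ### products of commuting elements -/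

section Prod

variable {C : Type*} [Group C]

/-- the product of two cyclic subgroups -/
theorem exists_prod {a b : C} (hab : a * b = b * a) (hd : zpowers a ⊓ zpowers b = ⊥) :
    ∃ E : Subgroup C, Nat.card ↥E = orderOf a * orderOf b ∧ ∀ g ∈ E, ∃ i j : ℤ, g = a ^ i * b ^ j := by
  let f : ↥(zpowers a) × ↥(zpowers b) →* C :=
    (zpowers a).subtype.noncommCoprod (zpowers b).subtype (by
      rintro ⟨_, i, rfl⟩ ⟨_, j, rfl⟩
      exact ((show Commute a b from hab).zpow_left i).zpow_right j)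
  have hf : Function.Injective f := by
    rw [injective_iff_map_eq_one]
    rintro ⟨x, y⟩ h
    have h1 : (x : C) * (y : C) = 1 := h
    have h2 : (x : C) ∈ zpowers a ⊓ zpowers b := by
      refine ⟨x.2, ?_⟩
      have h3 : (x : C) = (y : C)⁻¹ := eq_inv_of_mul_eq_one_left h1
      rw [h3]
      exact (zpowers b).inv_mem y.2
    rw [hd, mem_bot] at h2
    have h3 : (y : C) = 1 := by rwa [h2, one_mul] at h1
    exact Prod.ext (Subtype.ext h2) (Subtype.ext h3)
  refine ⟨f.range, ?_, ?_⟩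
  · rw [← Nat.card_congr (MonoidHom.ofInjective hf).toEquiv, Nat.card_prod, Nat.card_zpowers, Nat.card_zpowers]
  · rintro _ ⟨⟨⟨_, i, rfl⟩, ⟨_, j, rfl⟩⟩, rfl⟩
    exact ⟨i, j, rfl⟩

theorem mul_order_dvd [Finite C] {a b : C} (hab : a * b = b * a) (hd : zpowers a ⊓ zpowers b = ⊥) :
    orderOf a * orderOf b ∣ Nat.card C := by
  obtain ⟨E, hE, -⟩ := exists_prod hab hd
  rw [← hE]
  exact card_subgroup_dvd_card E

theorem inf_eq_bot_of_prime {a b : C} {p : ℕ} (hp : p.Prime) (ha : orderOf a = p) (h : a ∉ zpowers b) :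
    zpowers a ⊓ zpowers b = ⊥ := by
  have h1 : Nat.card ↥(zpowers a) = p := by rw [Nat.card_zpowers, ha]
  have : Fact p.Prime := ⟨hp⟩
  rw [eq_bot_iff]
  rintro x ⟨hx, hxb⟩
  rw [mem_bot]
  by_contra hne
  apply h
  have h2 : zpowers x = zpowers a := by
    have hfin : Finite ↥(zpowers a) := Nat.finite_of_card_ne_zero (by rw [h1]; exact hp.ne_zero)
    apply eq_of_le_of_card_ge (zpowers_le.2 hx)
    rw [h1, Nat.card_zpowers]
    have h3 : orderOf x ∣ p := by
      rw [← ha, ← Nat.card_zpowers a]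
      have h4 : orderOf (⟨x, hx⟩ : ↥(zpowers a)) ∣ Nat.card ↥(zpowers a) := _root_.orderOf_dvd_natCard _
      rwa [← Subgroup.orderOf_coe] at h4
    rcases (Nat.dvd_prime hp).1 h3 with h4 | h4
    · exact absurd (orderOf_eq_one_iff.1 h4) hne
    · exact h4.ge
  have h3 : a ∈ zpowers x := by rw [h2]; exact mem_zpowers a
  exact (zpowers_le.2 hxb) h3

theorem mem_zpowers_lt {a b : C} {n : ℕ} (hn : 0 < n) (hb : b ^ n = 1) (h : a ∈ zpowers b) : ∃ k < n, a = b ^ k := by
  obtain ⟨j, rfl⟩ := mem_zpowers_iff.1 h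
  refine ⟨(j % n).toNat, ?_, ?_⟩
  · have h1 : 0 ≤ j % (n : ℤ) := Int.emod_nonneg _ (by omega)
    have h2 : j % (n : ℤ) < n := Int.emod_lt_of_pos _ (by omega)
    omega
  · have h1 : 0 ≤ j % (n : ℤ) := Int.emod_nonneg _ (by omega)
    have h3 : b ^ ((j % n).toNat : ℤ) = b ^ j := by
      rw [Int.toNat_of_nonneg h1]
      conv_rhs => rw [← Int.emod_add_mul_ediv j n, zpow_add, zpow_mul, zpow_natCast, hb, one_zpow, mul_one]
    rw [← h3, zpow_natCast]

end Prod

/-! ### words -/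

/-- element of order 8 of `C(w2)` -/
def wg : List ℕ := [3, 0, 3, 0, 3, 0, 2, 0, 2, 1, 3, 1, 3, 1, 3, 3, 4, 3]
/-- involution of `C(w2)` -/
def wh : List ℕ := [2, 4, 3]
/-- element of order 3 of `C(w2)` -/
def wt : List ℕ := [3, 3, 4, 2, 2, 2, 4, 3]
/-- element of order 5 of `C(w2)` -/
def we : List ℕ := [1, 3, 4, 3, 3, 3, 4, 2, 2]
/-- element of order 5 of `C(w3)` -/
def wf : List ℕ := [0, 3, 0, 2, 4, 2, 0, 2, 1, 3, 4, 2, 2, 1, 2]
/-- element of order 4 of `C(w1) ∩ C(a)` -/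
def wq : List ℕ := [0, 4, 2, 2, 4, 2, 2, 2, 4, 3, 3, 4, 3, 0, 2, 2, 2, 4, 2, 4, 2, 2, 4, 2, 2, 2, 4, 3, 3, 4, 1]
/-- the word of `d` -/
def wd0 : List ℕ := [1, 3, 1, 2, 1, 4, 3, 4, 2, 4]

theorem comm_of {v w : List ℕ} (h : eqw (v ++ w) (w ++ v) = true) : hw v * hw w = hw w * hw v := by
  rw [← hw_append, ← hw_append]
  exact hw_eq h

theorem pow_of {v w : List ℕ} {n : ℕ} (h : eqw (rp n v) w = true) : hw v ^ n = hw w := by
  rw [← hw_rp]
  exact hw_eq h

theorem pow_one_of {v : List ℕ} {n : ℕ} (h : eqw (rp n v) [] = true) : hw v ^ n = 1 := by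
  rw [pow_of h, hw_nil]

theorem w1_five : hw w1 ^ 5 = 1 := pow_one_of (by decide +kernel)
theorem w2_five : hw w2 ^ 5 = 1 := pow_one_of (by decide +kernel)
theorem w3_five : hw w3 ^ 5 = 1 := pow_one_of (by decide +kernel)

theorem w1_ne : hw w1 ≠ 1 := by
  rw [← hw_nil]
  exact hw_ne (p := 3) (by decide +kernel) (by decide) (by norm_num) (by decide +kernel)
theorem w2_ne : hw w2 ≠ 1 := by
  rw [← hw_nil]
  exact hw_ne (p := 3) (by decide +kernel) (by decide) (by norm_num) (by decide +kernel)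
theorem w3_ne : hw w3 ≠ 1 := by
  rw [← hw_nil]
  exact hw_ne (p := 3) (by decide +kernel) (by decide) (by norm_num) (by decide +kernel)

theorem order_five_of {g : H0} (h : g ^ 5 = 1) (h1 : g ≠ 1) : orderOf g = 5 := by
  have : Fact (Nat.Prime 5) := ⟨Nat.prime_five⟩
  exact orderOf_eq_prime h h1

theorem order_w1 : orderOf (hw w1) = 5 := order_five_of w1_five w1_ne
theorem order_w2 : orderOf (hw w2) = 5 := order_five_of w2_five w2_ne
theorem order_w3 : orderOf (hw w3) = 5 := order_five_of w3_five w3_ne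

/-! ### `w2` -/

theorem g_comm : hw wg * hw w2 = hw w2 * hw wg := comm_of (by decide +kernel)
theorem h_comm : hw wh * hw w2 = hw w2 * hw wh := comm_of (by decide +kernel)
theorem t_comm : hw wt * hw w2 = hw w2 * hw wt := comm_of (by decide +kernel)
theorem e_comm : hw we * hw w2 = hw w2 * hw we := comm_of (by decide +kernel)
theorem g_four : hw wg ^ 4 = τ := by
  rw [pow_of (w := [0, 0]) (by decide +kernel), hw_τ]
theorem h_two : hw wh ^ 2 = 1 := pow_one_of (by decide +kernel)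
theorem t_three : hw wt ^ 3 = 1 := pow_one_of (by decide +kernel)
theorem e_five : hw we ^ 5 = 1 := pow_one_of (by decide +kernel)

theorem h_ne : hw wh ≠ 1 := by
  rw [← hw_nil]
  exact hw_ne (p := 3) (by decide +kernel) (by decide) (by norm_num) (by decide +kernel)
theorem t_ne : hw wt ≠ 1 := by
  rw [← hw_nil]
  exact hw_ne (p := 3) (by decide +kernel) (by decide) (by norm_num) (by decide +kernel)

theorem hgh : hw wh * hw wg * (hw wh)⁻¹ = hw wg ^ 3 := by
  rw [mul_inv_eq_iff_eq_mul, ← hw_rp, ← hw_append, ← hw_append]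
  exact hw_eq (by decide +kernel)

theorem tgt : (hw wt)⁻¹ * hw wg ^ 2 * hw wt = hw wg * hw wh := by
  rw [mul_assoc, inv_mul_eq_iff_eq_mul, ← hw_rp, ← hw_append, ← hw_append, ← hw_append]
  exact hw_eq (by decide +kernel)

theorem e_not_mem : hw we ∉ zpowers (hw w2) := by
  intro h
  obtain ⟨k, hk, h1⟩ := mem_zpowers_lt (by norm_num) w2_five h
  rw [← hw_rp] at h1
  have key : ∀ k < 5, tr we 0 ≠ tr (rp k w2) 0 ∨ tr we 1 ≠ tr (rp k w2) 1 ∨ tr we 2 ≠ tr (rp k w2) 2 := by
    decide +kernel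
  have ok : ∀ k < 5, okw (rp k w2) = true := by decide +kernel
  have ok1 : okw we = true := by decide +kernel
  rcases key k hk with h2 | h2 | h2
  · exact hw_ne ok1 (ok k hk) (by norm_num) h2 h1
  · exact hw_ne ok1 (ok k hk) (by norm_num) h2 h1
  · exact hw_ne ok1 (ok k hk) (by norm_num) h2 h1

theorem order_e : orderOf (hw we) = 5 := by
  refine order_five_of e_five ?_
  intro h
  apply e_not_mem
  rw [h]
  exact one_mem _

theorem order_t : orderOf (hw wt) = 3 := by
  have : Fact (Nat.Prime 3) := ⟨Nat.prime_three⟩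
  exact orderOf_eq_prime t_three t_ne

theorem order_g : orderOf (hw wg) = 8 := by
  have h8 : hw wg ^ 8 = 1 := by rw [show 8 = 4 * 2 from rfl, pow_mul, g_four, τ_sq]
  have h1 : orderOf (hw wg) ∣ 2 ^ 3 := by rw [show (2 : ℕ) ^ 3 = 8 by norm_num]; exact orderOf_dvd_of_pow_eq_one h8
  obtain ⟨k, hk, h2⟩ := (Nat.dvd_prime_pow Nat.prime_two).1 h1
  have h3 : ¬ orderOf (hw wg) ∣ 4 := by
    intro h
    have h4 := orderOf_dvd_iff_pow_eq_one.1 h
    rw [g_four] at h4
    exact τ_ne_one h4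
  rw [h2] at h3 ⊢
  interval_cases k
  · norm_num at h3
  · norm_num at h3
  · norm_num at h3
  · norm_num

theorem order_h : orderOf (hw wh) = 2 := by
  have : Fact (Nat.Prime 2) := ⟨Nat.prime_two⟩
  exact orderOf_eq_prime h_two h_ne

/-- **`32 ∤ |C(w2)|`** -/
theorem not_dvd_two : ¬ 32 ∣ Nat.card ↥(centralizer ({hw w2} : Set H0)) := by
  have := finite_H0
  intro h32
  have he : hw we ∈ centralizer ({hw w2} : Set H0) := mem_centralizer_singleton_iff.2 e_comm
  have hw' : hw w2 ∈ centralizer ({hw w2} : Set H0) := mem_centralizer_singleton_iff.2 rfl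
  have ht : hw wt ∈ centralizer ({hw w2} : Set H0) := mem_centralizer_singleton_iff.2 t_comm
  have h25 : 25 ∣ Nat.card ↥(centralizer ({hw w2} : Set H0)) := by
    have h1 := mul_order_dvd (C := ↥(centralizer ({hw w2} : Set H0))) (a := ⟨hw we, he⟩) (b := ⟨hw w2, hw'⟩)
      (Subtype.ext e_comm) (inf_eq_bot_of_prime Nat.prime_five (by rw [← Subgroup.orderOf_coe]; exact order_e) (by
        intro h
        apply e_not_mem
        obtain ⟨k, hk⟩ := mem_zpowers_iff.1 h
        exact mem_zpowers_iff.2 ⟨k, congrArg Subtype.val hk⟩))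
    rw [← Subgroup.orderOf_coe, ← Subgroup.orderOf_coe] at h1
    change orderOf (hw we) * orderOf (hw w2) ∣ _ at h1
    rwa [order_e, order_w2] at h1
  have h3 : 3 ∣ Nat.card ↥(centralizer ({hw w2} : Set H0)) := by
    have h1 : orderOf (⟨hw wt, ht⟩ : ↥(centralizer ({hw w2} : Set H0))) ∣ _ := _root_.orderOf_dvd_natCard _
    rw [← Subgroup.orderOf_coe] at h1
    change orderOf (hw wt) ∣ _ at h1
    rwa [order_t] at h1
  have hle := card_le_two
  have hpos : 0 < Nat.card ↥(centralizer ({hw w2} : Set H0)) := Nat.card_pos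
  have h75 : 32 * 75 ∣ Nat.card ↥(centralizer ({hw w2} : Set H0)) :=
    Nat.Coprime.mul_dvd_of_dvd_of_dvd (by norm_num) h32
      (Nat.Coprime.mul_dvd_of_dvd_of_dvd (m := 3) (n := 25) (by norm_num) h3 h25)
  exact absurd ((Nat.le_of_dvd hpos h75).trans hle) (by decide)

/-! ### `w3` -/

theorem d_comm : d * hw w3 = hw w3 * d := comm_of (by decide +kernel)
theorem f_comm : hw wf * hw w3 = hw w3 * hw wf := comm_of (by decide +kernel)
theorem f_five : hw wf ^ 5 = 1 := pow_one_of (by decide +kernel)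
theorem d_two : d ^ 2 = 1 := pow_one_of (by decide +kernel)

theorem f_not_mem : hw wf ∉ zpowers (hw w3) := by
  intro h
  obtain ⟨k, hk, h1⟩ := mem_zpowers_lt (by norm_num) w3_five h
  rw [← hw_rp] at h1
  have key : ∀ k < 5, tr wf 0 ≠ tr (rp k w3) 0 ∨ tr wf 1 ≠ tr (rp k w3) 1 ∨ tr wf 2 ≠ tr (rp k w3) 2 := by
    decide +kernel
  have ok : ∀ k < 5, okw (rp k w3) = true := by decide +kernel
  have ok1 : okw wf = true := by decide +kernel
  rcases key k hk with h2 | h2 | h2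
  · exact hw_ne ok1 (ok k hk) (by norm_num) h2 h1
  · exact hw_ne ok1 (ok k hk) (by norm_num) h2 h1
  · exact hw_ne ok1 (ok k hk) (by norm_num) h2 h1

theorem order_f : orderOf (hw wf) = 5 := by
  refine order_five_of f_five ?_
  intro h
  apply f_not_mem
  rw [h]
  exact one_mem _

theorem d_ne : d ≠ 1 := by
  have h : hw wd0 ≠ hw [] := hw_ne (p := 0) (by decide +kernel) (by decide) (by norm_num) (by decide +kernel)
  rw [hw_nil] at h
  exact h

theorem d_ne_τ : d ≠ τ := by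
  have h : hw wd0 ≠ hw [0, 0] := hw_ne (p := 0) (by decide +kernel) (by decide +kernel) (by norm_num) (by decide +kernel)
  rw [hw_τ] at h
  exact h

theorem order_d : orderOf d = 2 := by
  have : Fact (Nat.Prime 2) := ⟨Nat.prime_two⟩
  exact orderOf_eq_prime d_two d_ne

theorem order_τ : orderOf τ = 2 := by
  have : Fact (Nat.Prime 2) := ⟨Nat.prime_two⟩
  exact orderOf_eq_prime τ_sq τ_ne_one

theorem d_not_mem : d ∉ zpowers τ := by
  intro h
  obtain ⟨k, hk, h1⟩ := mem_zpowers_lt (by norm_num) τ_sq h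
  interval_cases k
  · exact d_ne (by rw [h1, pow_zero])
  · exact d_ne_τ (by rw [h1, pow_one])

/-- the four-group `⟨d, τ⟩` in `C(w3)` -/
theorem exists_four : ∃ E : Subgroup ↥(centralizer ({hw w3} : Set H0)), Nat.card ↥E = 4 ∧
    ∀ g ∈ E, (g : H0) = 1 ∨ (g : H0) = τ ∨ (g : H0) = d ∨ (g : H0) = d * τ := by
  have hd : d ∈ centralizer ({hw w3} : Set H0) := mem_centralizer_singleton_iff.2 d_comm
  have hτ : τ ∈ centralizer ({hw w3} : Set H0) := mem_centralizer_singleton_iff.2 (τ_comm _).symm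
  obtain ⟨E, hE, h1⟩ := exists_prod (C := ↥(centralizer ({hw w3} : Set H0))) (a := ⟨d, hd⟩) (b := ⟨τ, hτ⟩)
      (Subtype.ext (τ_comm d)) (inf_eq_bot_of_prime Nat.prime_two (by rw [← Subgroup.orderOf_coe]; exact order_d) (by
        intro h
        apply d_not_mem
        obtain ⟨k, hk⟩ := mem_zpowers_iff.1 h
        exact mem_zpowers_iff.2 ⟨k, congrArg Subtype.val hk⟩))
  refine ⟨E, ?_, ?_⟩
  · rw [← Subgroup.orderOf_coe, ← Subgroup.orderOf_coe] at hE
    change _ = orderOf d * orderOf τ at hE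
    rwa [order_d, order_τ] at hE
  · intro g hg
    obtain ⟨i, j, rfl⟩ := h1 g hg
    have h2 : (((⟨d, hd⟩ : ↥(centralizer ({hw w3} : Set H0))) ^ i * ⟨τ, hτ⟩ ^ j :
      ↥(centralizer ({hw w3} : Set H0))) : H0) = d ^ i * τ ^ j := rfl
    rw [h2]
    obtain ⟨i', hi, h3⟩ := mem_zpowers_lt (by norm_num) d_two (mem_zpowers_iff.2 ⟨i, rfl⟩)
    obtain ⟨j', hj, h4⟩ := mem_zpowers_lt (by norm_num) τ_sq (mem_zpowers_iff.2 ⟨j, rfl⟩)
    rw [h3, h4]
    interval_cases i' <;> interval_cases j' <;> simp only [_root_.pow_zero, _root_.mul_one, _root_.true_or, _root_.pow_one, _root_.one_mul, _root_.right_eq_mul, _root_.or_true, _root_.left_eq_mul, _root_.mul_eq_right, _root_.mul_eq_left]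

/-- **`|C(w3)| = 100`** -/
theorem card_three : Nat.card ↥(centralizer ({hw w3} : Set H0)) = 100 := by
  have := finite_H0
  have he : hw wf ∈ centralizer ({hw w3} : Set H0) := mem_centralizer_singleton_iff.2 f_comm
  have hw' : hw w3 ∈ centralizer ({hw w3} : Set H0) := mem_centralizer_singleton_iff.2 rfl
  have h25 : 25 ∣ Nat.card ↥(centralizer ({hw w3} : Set H0)) := by
    have h1 := mul_order_dvd (C := ↥(centralizer ({hw w3} : Set H0))) (a := ⟨hw wf, he⟩) (b := ⟨hw w3, hw'⟩)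
      (Subtype.ext f_comm) (inf_eq_bot_of_prime Nat.prime_five (by rw [← Subgroup.orderOf_coe]; exact order_f) (by
        intro h
        apply f_not_mem
        obtain ⟨k, hk⟩ := mem_zpowers_iff.1 h
        exact mem_zpowers_iff.2 ⟨k, congrArg Subtype.val hk⟩))
    rw [← Subgroup.orderOf_coe, ← Subgroup.orderOf_coe] at h1
    change orderOf (hw wf) * orderOf (hw w3) ∣ _ at h1
    rwa [order_f, order_w3] at h1
  obtain ⟨E, hE, -⟩ := exists_four
  have h4 : 4 ∣ Nat.card ↥(centralizer ({hw w3} : Set H0)) := by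
    rw [← hE]
    exact card_subgroup_dvd_card E
  have h100 : 4 * 25 ∣ Nat.card ↥(centralizer ({hw w3} : Set H0)) :=
    Nat.Coprime.mul_dvd_of_dvd_of_dvd (by norm_num) h4 h25
  have hpos : 0 < Nat.card ↥(centralizer ({hw w3} : Set H0)) := Nat.card_pos
  exact Nat.le_antisymm card_le_three (Nat.le_of_dvd hpos h100)

/-- the involutions of `C(w3)` -/
theorem inv_three {v : H0} (hv : v * hw w3 = hw w3 * v) (h2 : orderOf v = 2) :
    v = τ ∨ IsConj d v := by
  have := finite_H0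
  have : Fact (Nat.Prime 2) := ⟨Nat.prime_two⟩
  obtain ⟨E, hE, hEm⟩ := exists_four
  have hfac : (Nat.card ↥(centralizer ({hw w3} : Set H0))).factorization 2 = 2 := by
    rw [card_three, show (100 : ℕ) = 2 ^ 2 * 25 by norm_num]
    have h2 : (25 : ℕ).factorization 2 = 0 := Nat.factorization_eq_zero_of_not_dvd (by norm_num)
    rw [Nat.factorization_mul (by norm_num) (by norm_num), Nat.Prime.factorization_pow Nat.prime_two,
      Finsupp.add_apply, h2, Finsupp.single_eq_same]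
  let P : Sylow 2 ↥(centralizer ({hw w3} : Set H0)) := Sylow.ofCard E (by rw [hfac, hE]; norm_num)
  let v' : ↥(centralizer ({hw w3} : Set H0)) := ⟨v, mem_centralizer_singleton_iff.2 hv⟩
  have hv' : orderOf v' = 2 := by rw [← Subgroup.orderOf_coe]; exact h2
  have hvp : IsPGroup 2 ↥(zpowers v') := IsPGroup.of_card (n := 1) (by rw [Nat.card_zpowers, hv', pow_one])
  obtain ⟨Q, hQ⟩ := hvp.exists_le_sylow
  obtain ⟨g, hg⟩ := MulAction.exists_smul_eq ↥(centralizer ({hw w3} : Set H0)) Q P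
  have h1 : g * v' * g⁻¹ ∈ (P : Subgroup ↥(centralizer ({hw w3} : Set H0))) := by
    rw [← hg, Sylow.coe_subgroup_smul]
    exact ⟨v', hQ (mem_zpowers v'), rfl⟩
  have h3 : ((g * v' * g⁻¹ : ↥(centralizer ({hw w3} : Set H0))) : H0) = g * v * (g : H0)⁻¹ := rfl
  have hdτ : IsConj d (d * τ) := isConj_iff.2 ⟨gx⁻¹, by rw [inv_inv]; exact hw_d_conj⟩
  have hvc : IsConj ((g : H0) * v * (g : H0)⁻¹) v := (isConj_iff.2 ⟨(g : H0), rfl⟩ : IsConj v _).symm
  rcases hEm _ h1 with h4 | h4 | h4 | h4 <;> rw [h3] at h4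
  · exfalso
    rw [conj_eq_one_iff] at h4
    rw [h4, orderOf_one] at h2
    norm_num at h2
  · left
    calc v = (g : H0)⁻¹ * (g * v * (g : H0)⁻¹) * g := by group
      _ = (g : H0)⁻¹ * (τ * g) := by rw [h4, mul_assoc]
      _ = τ := by rw [← τ_comm]; group
  · right
    rw [h4] at hvc
    exact hvc
  · right
    rw [h4] at hvc
    exact hdτ.trans hvc

/-! ### `w1` -/

theorem q_comm : hw wq * hw w1 = hw w1 * hw wq := comm_of (by decide +kernel)
theorem a_comm : a * hw w1 = hw w1 * a := by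
  rw [← hw_a]
  exact comm_of (by decide +kernel)
theorem q_comm_a : hw wq * a = a * hw wq := by
  rw [← hw_a]
  exact comm_of (by decide +kernel)
theorem q_four : hw wq ^ 4 = 1 := pow_one_of (by decide +kernel)

theorem τ_not_mem : τ ∉ zpowers (hw wq) := by
  intro h
  obtain ⟨k, hk, h1⟩ := mem_zpowers_lt (by norm_num) q_four h
  rw [← hw_rp, ← hw_τ] at h1
  have key : ∀ k < 4, tr [0, 0] 3 ≠ tr (rp k wq) 3 := by decide +kernel
  have ok : ∀ k < 4, okw (rp k wq) = true := by decide +kernel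
  exact hw_ne (by decide +kernel) (ok k hk) (by norm_num) (key k hk) h1

theorem q_sq_ne : hw wq ^ 2 ≠ 1 := by
  rw [← hw_rp, ← hw_nil]
  exact hw_ne (p := 0) (by decide +kernel) (by decide) (by norm_num) (by decide +kernel)

theorem order_q : orderOf (hw wq) = 4 := by
  have h1 : orderOf (hw wq) ∣ 2 ^ 2 := by rw [show (2 : ℕ) ^ 2 = 4 by norm_num]; exact orderOf_dvd_of_pow_eq_one q_four
  obtain ⟨k, hk, h2⟩ := (Nat.dvd_prime_pow Nat.prime_two).1 h1
  have h3 : ¬ orderOf (hw wq) ∣ 2 := fun h => q_sq_ne (orderOf_dvd_iff_pow_eq_one.1 h)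
  rw [h2] at h3 ⊢
  interval_cases k
  · norm_num at h3
  · norm_num at h3
  · norm_num

end Cfsg.Agent.CpAutHNFive.HFacts

end

-- merged: Cfsg.Agent.CpAutHNFive.Iso
section

/-!
# Isolated involutions (helper89)

* `solvable_of_iso` : if no other conjugate of the involution `z` commutes with `z` and `C(z)` is solvable then `X` is
  solvable (Glauberman, Feit-Thompson as hypothesis);
* `iso_of_extra` : `z` is isolated if the 2-elements of `C(z)` form a subgroup `T`, normal in `C(z)`, with commutators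
  in `⟨z⟩` and `C_T(s)` non-abelian for every involution `s ≠ z` of `T`;
* `comm_of_norm` : `R` a group with commutators in `⟨z⟩` and `x` of order 5 normalising `R`: the centre of `C_R(x)` is
  in the centre of `R`;
* `exists_not_comm` : `C_T(s)` is not abelian, `T` with commutators in `⟨z⟩ = Z(T)`, `|T| > 8`.
-/

set_option autoImplicit false

namespace Cfsg.Agent.CpAutHNFive

open Subgroup Cfsg Cfsg.Agent.CpAut

universe u

section Iso

variable {X : Type u} [Group X] [Finite X]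

omit [Finite X] in
theorem inv_ne_one {z : X} (hz : orderOf z = 2) : z ≠ 1 := by
  rintro rfl
  rw [orderOf_one] at hz
  norm_num at hz

omit [Finite X] in
theorem inv_sq {z : X} (hz : orderOf z = 2) : z * z = 1 := by rw [← pow_two, ← hz, pow_orderOf_eq_one]

/-- an isolated involution is central in a Sylow 2-subgroup -/
theorem center_of_iso {z : X} (hiso : ∀ g : X, g * z * g⁻¹ * z = z * (g * z * g⁻¹) → g * z * g⁻¹ = z)
    (P : Sylow 2 X) (hzP : z ∈ P) : ∀ g ∈ P, g * z = z * g := by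
  have : Fact (Nat.Prime 2) := ⟨Nat.prime_two⟩
  let D : Subgroup ↥(P : Subgroup X) := centralizer ({(⟨z, hzP⟩ : ↥(P : Subgroup X))} : Set ↥(P : Subgroup X))
  have hN : normalizer (D : Set ↥(P : Subgroup X)) ≤ D := by
    intro g hg
    have h1 : g * ⟨z, hzP⟩ * g⁻¹ ∈ D := (mem_normalizer_iff.1 hg _).1 (mem_centralizer_singleton_iff.2 rfl)
    have h2 := hiso (g : X) (congrArg Subtype.val (mem_centralizer_singleton_iff.1 h1))
    refine mem_centralizer_singleton_iff.2 (Subtype.ext ?_)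
    change (g : X) * z = z * g
    rwa [mul_inv_eq_iff_eq_mul] at h2
  have hnil : Group.IsNilpotent ↥(P : Subgroup X) := P.isPGroup'.isNilpotent
  have hD : D = ⊤ := by
    by_contra hne
    have h1 := Group.normalizerCondition_of_isNilpotent (G := ↥(P : Subgroup X)) D (lt_top_iff_ne_top.2 hne)
    exact absurd hN (not_le_of_gt h1)
  intro g hg
  have h1 : (⟨g, hg⟩ : ↥(P : Subgroup X)) ∈ D := by rw [hD]; exact mem_top _
  exact congrArg Subtype.val (mem_centralizer_singleton_iff.1 h1)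

/-- **Glauberman** for an isolated involution. -/
theorem exists_odd_sup_of_iso {z : X} (hz : orderOf z = 2)
    (hiso : ∀ g : X, g * z * g⁻¹ * z = z * (g * z * g⁻¹) → g * z * g⁻¹ = z) :
    ∃ N : Subgroup X, N.Normal ∧ Odd (Nat.card ↥N) ∧ N ⊔ centralizer ({z} : Set X) = ⊤ := by
  have : Fact (Nat.Prime 2) := ⟨Nat.prime_two⟩
  have hzp : IsPGroup 2 ↥(zpowers z) := IsPGroup.of_card (n := 1) (by rw [Nat.card_zpowers, hz, pow_one])
  obtain ⟨P, hP⟩ := hzp.exists_le_sylow
  have hzP : z ∈ P := hP (mem_zpowers z)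
  have hcen := center_of_iso hiso P hzP
  obtain ⟨N, hN, hodd, hc⟩ := Cfsg.Agent.S0215.result P z hz hzP (fun g hg => hiso g (hcen _ hg))
  refine ⟨N, hN, hodd, ?_⟩
  rw [eq_top_iff]
  refine TwoCov.sup_eq_top hz N hodd (fun g _ => ?_)
  have h2 := N.inv_mem (hc g)
  have h3 : (z * g * z⁻¹ * g⁻¹)⁻¹ = g * z * g⁻¹ * z⁻¹ := by group
  rwa [h3] at h2

/-- **An isolated involution with a solvable centraliser.** -/
theorem solvable_of_iso (FT : ∀ (K : Type u) [Group K] [Finite K], Odd (Nat.card K) → Group.IsSolvable K) {z : X}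
    (hz : orderOf z = 2) (hiso : ∀ g : X, g * z * g⁻¹ * z = z * (g * z * g⁻¹) → g * z * g⁻¹ = z)
    (hs : Group.IsSolvable ↥(centralizer ({z} : Set X))) : Group.IsSolvable X := by
  obtain ⟨N, hN, hodd, hsup⟩ := exists_odd_sup_of_iso hz hiso
  have hNs : Group.IsSolvable ↥N := FT ↥N hodd
  have hQ : Group.IsSolvable (X ⧸ N) := by
    let f : ↥(centralizer ({z} : Set X)) →* X ⧸ N := (QuotientGroup.mk' N).comp (centralizer ({z} : Set X)).subtype
    have hf : Function.Surjective f := by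
      intro y
      obtain ⟨g, rfl⟩ := QuotientGroup.mk'_surjective N y
      have hg : g ∈ N ⊔ centralizer ({z} : Set X) := by rw [hsup]; exact mem_top g
      obtain ⟨n, hn, c, hc, rfl⟩ := mem_sup_of_normal_left.1 hg
      refine ⟨⟨c, hc⟩, ?_⟩
      change QuotientGroup.mk' N c = QuotientGroup.mk' N (n * c)
      rw [map_mul, (QuotientGroup.eq_one_iff n).2 hn |> fun h => (h : QuotientGroup.mk' N n = 1), one_mul]
    exact Group.isSolvable_of_surjective hf
  exact Group.isSolvable_of_ker_le_range N.subtype (QuotientGroup.mk' N) (by rw [QuotientGroup.ker_mk', range_subtype])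

omit [Finite X] in
/-- `z` is isolated -/
theorem iso_of_extra {z : X} (hz : orderOf z = 2) (T : Subgroup X)
    (hall : ∀ (u : X) (k : ℕ), u ^ 2 ^ k = 1 → u * z = z * u → u ∈ T) (hT2 : IsPGroup 2 ↥T)
    (hcomm : ∀ a ∈ T, ∀ b ∈ T, a * b = b * a ∨ a * b = b * a * z)
    (hZ : ∀ s ∈ T, orderOf s = 2 → s ≠ z → ∃ a ∈ T, ∃ b ∈ T, a * s = s * a ∧ b * s = s * b ∧ a * b ≠ b * a) :
    ∀ g : X, g * z * g⁻¹ * z = z * (g * z * g⁻¹) → g * z * g⁻¹ = z := by
  intro g hg
  by_contra hne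
  have hs2 : orderOf (g * z * g⁻¹) = 2 := by rw [← hz]; exact MulEquiv.orderOf_eq (MulAut.conj g) z
  have hsT : g * z * g⁻¹ ∈ T := by
    refine hall _ 1 ?_ hg
    rw [pow_one, ← hs2, pow_orderOf_eq_one]
  obtain ⟨a, ha, b, hb, has, hbs, hab⟩ := hZ _ hsT hs2 hne
  have key : ∀ a ∈ T, a * (g * z * g⁻¹) = g * z * g⁻¹ * a → g⁻¹ * a * g ∈ T := by
    intro a ha h
    obtain ⟨k, hk⟩ := hT2 ⟨a, ha⟩
    have hk' : a ^ 2 ^ k = 1 := by
      have h0 := congrArg Subtype.val hk
      exact h0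
    refine hall _ k ?_ ?_
    · have h1 : (g⁻¹ * a * g) ^ 2 ^ k = g⁻¹ * a ^ 2 ^ k * g := by
        have h2 := map_pow (MulAut.conj g⁻¹) a (2 ^ k)
        rw [MulAut.conj_apply, MulAut.conj_apply, inv_inv] at h2
        exact h2.symm
      rw [h1, hk', mul_one, inv_mul_cancel]
    · calc g⁻¹ * a * g * z = g⁻¹ * (a * (g * z * g⁻¹)) * g := by group
        _ = g⁻¹ * (g * z * g⁻¹ * a) * g := by rw [h]
        _ = z * (g⁻¹ * a * g) := by group
  rcases hcomm a ha b hb with h | h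
  · exact hab h
  rcases hcomm _ (key a ha has) _ (key b hb hbs) with h1 | h1
  · apply hab
    calc a * b = g * ((g⁻¹ * a * g) * (g⁻¹ * b * g)) * g⁻¹ := by group
      _ = g * ((g⁻¹ * b * g) * (g⁻¹ * a * g)) * g⁻¹ := by rw [h1]
      _ = b * a := by group
  · apply hne
    have h2 : a * b = b * a * (g * z * g⁻¹) := by
      calc a * b = g * ((g⁻¹ * a * g) * (g⁻¹ * b * g)) * g⁻¹ := by group
        _ = g * ((g⁻¹ * b * g) * (g⁻¹ * a * g) * z) * g⁻¹ := by rw [h1]
        _ = b * a * (g * z * g⁻¹) := by group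
    rw [h] at h2
    exact (mul_left_cancel h2).symm

end Iso

section Extra

variable {G : Type u} [Group G]

/-- The centre of `C_R(x)` centralises `R`. -/
theorem comm_of_norm {R : Subgroup G} {z x t : G} (hz : orderOf z = 2) (hzc : ∀ g ∈ R, g * z = z * g)
    (hzx : x * z = z * x) (hx : x ^ 5 = 1) (hxR : ∀ r ∈ R, x * r * x⁻¹ ∈ R)
    (hcomm : ∀ a ∈ R, ∀ b ∈ R, a * b = b * a ∨ a * b = b * a * z) (ht : t ∈ R) (htx : t * x = x * t)
    (htc : ∀ c ∈ R, c * x = x * c → t * c = c * t) {r : G} (hr : r ∈ R) : t * r = r * t := by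
  have hz1 : z ≠ 1 := inv_ne_one hz
  have hz2 : z * z = 1 := inv_sq hz
  rcases hcomm t ht r hr with h | h
  · exact h
  exfalso
  -- `n = (r x) ^ 5`
  have hn : (r * x) ^ 5 ∈ R := by
    have h1 : (r * x) ^ 5 = r * (x * (r * (x * (r * (x * (r * (x * r * x⁻¹)) * x⁻¹)) * x⁻¹)) * x⁻¹) * x ^ 5 := by
      rw [pow_succ, pow_succ, pow_succ, pow_two]; group
    rw [h1, hx, mul_one]
    exact R.mul_mem hr (hxR _ (R.mul_mem hr (hxR _ (R.mul_mem hr (hxR _ (R.mul_mem hr (hxR _ hr)))))))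
  have hxn : x * (r * x) ^ 5 * x⁻¹ = r⁻¹ * (r * x) ^ 5 * r := by
    rw [pow_succ, pow_succ, pow_succ, pow_two]; group
  have hcx : (r * x) ^ 5 * x = x * (r * x) ^ 5 := by
    rcases hcomm ((r * x) ^ 5) hn r hr with h1 | h1
    · have h2 : x * (r * x) ^ 5 * x⁻¹ = (r * x) ^ 5 := by
        rw [hxn, mul_assoc, h1]; group
      rw [mul_inv_eq_iff_eq_mul] at h2
      exact h2.symm
    · exfalso
      have h2 : x * (r * x) ^ 5 * x⁻¹ = (r * x) ^ 5 * z := by
        rw [hxn, mul_assoc, h1]; group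
      set n := (r * x) ^ 5 with hnd
      have h3 : x * n = n * z * x := by rw [← h2]; group
      have h3' : x * n = n * x * z := by rw [h3, mul_assoc, ← hzx, ← mul_assoc]
      have h4 : x ^ 5 * n = n * x ^ 5 * z := by
        have hx2 : ∀ k : ℕ, x ^ k * n = n * x ^ k * z ^ k := by
          intro k
          induction k with
          | zero => simp
          | succ k ih =>
            have hzk : x * z ^ k = z ^ k * x := ((show Commute x z from hzx).pow_right k).eq
            calc x ^ (k + 1) * n = x * (x ^ k * n) := by rw [pow_succ', mul_assoc]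
              _ = x * (n * x ^ k * z ^ k) := by rw [ih]
              _ = x * n * x ^ k * z ^ k := by group
              _ = n * x * (z * x ^ k) * z ^ k := by rw [h3']; group
              _ = n * x * (x ^ k * z) * z ^ k := by
                rw [← ((show Commute x z from hzx).pow_left k).eq]
              _ = n * x ^ (k + 1) * z ^ (k + 1) := by rw [pow_succ', pow_succ' z]; group
        have h5 := hx2 5
        have h6 : z ^ 5 = z := by
          rw [pow_succ, pow_succ, pow_succ, pow_two, hz2, one_mul, hz2, one_mul]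
        rwa [h6] at h5
      rw [hx, one_mul, mul_one] at h4
      exact hz1 (mul_eq_left.1 h4.symm)
  have h1 := htc _ hn hcx
  -- `t (r x) = (r x) t z`
  have h2 : t * (r * x) = r * x * t * z := by
    calc t * (r * x) = (t * r) * x := by group
      _ = r * t * (z * x) := by rw [h]; group
      _ = r * (t * x) * z := by rw [← hzx]; group
      _ = r * x * t * z := by rw [htx]; group
  have h3 : ∀ k : ℕ, t * (r * x) ^ k = (r * x) ^ k * t * z ^ k := by
    intro k
    induction k with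
    | zero => simp
    | succ k ih =>
      have hzr : r * x * z = z * (r * x) := by rw [mul_assoc, hzx, ← mul_assoc, hzc r hr, mul_assoc]
      have hzk : z ^ k * (r * x) = r * x * z ^ k := ((show Commute (r * x) z from hzr).pow_right k).eq.symm
      calc t * (r * x) ^ (k + 1) = t * (r * x) ^ k * (r * x) := by rw [pow_succ, mul_assoc]
        _ = (r * x) ^ k * t * (z ^ k * (r * x)) := by rw [ih]; group
        _ = (r * x) ^ k * (t * (r * x)) * z ^ k := by rw [hzk]; group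
        _ = (r * x) ^ k * (r * x * t * z) * z ^ k := by rw [h2]
        _ = (r * x) ^ (k + 1) * t * z ^ (k + 1) := by rw [pow_succ, pow_succ' z]; group
  have h4 := h3 5
  have h6 : z ^ 5 = z := by
    rw [pow_succ, pow_succ, pow_succ, pow_two, hz2, one_mul, hz2, one_mul]
  rw [h6, h1] at h4
  exact hz1 (mul_eq_left.1 h4.symm)

/-- translates of the elements not commuting with `x` -/
theorem inv_mul_comm {z x y t : G} (hz : z * z = 1) (hyz : y * z = z * y) (htz : t * z = z * t)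
    (hy : x * y = y * x * z) (ht : x * t = t * x * z) : y⁻¹ * t * x = x * (y⁻¹ * t) := by
  have h1 : y⁻¹ * x = x * (z * y⁻¹) := by
    rw [inv_mul_eq_iff_eq_mul]
    calc x = x * (z * z) := by rw [hz, mul_one]
      _ = x * z * z := by group
      _ = x * z * (y * z * y⁻¹) := by rw [hyz]; group
      _ = x * (z * y) * z * y⁻¹ := by group
      _ = x * y * z * z * y⁻¹ := by rw [← hyz]; group
      _ = y * x * z * z * z * y⁻¹ := by rw [hy]
      _ = y * (x * (z * z) * (z * y⁻¹)) := by group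
      _ = y * (x * (z * y⁻¹)) := by rw [hz, mul_one]
  calc y⁻¹ * t * x = y⁻¹ * (t * x * z) * z := by
        have e : y⁻¹ * (t * x * z) * z = y⁻¹ * t * x * (z * z) := by group
        rw [e, hz, mul_one]
    _ = y⁻¹ * x * t * z := by rw [← ht]; group
    _ = x * (z * y⁻¹ * (t * z)) := by rw [h1]; group
    _ = x * (z * (y⁻¹ * z) * t) := by rw [htz]; group
    _ = x * (z * (z * y⁻¹) * t) := by
      have e : y⁻¹ * z = z * y⁻¹ := by
        rw [inv_mul_eq_iff_eq_mul, ← mul_assoc, hyz, mul_inv_cancel_right]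
      rw [e]
    _ = x * ((z * z) * (y⁻¹ * t)) := by group
    _ = x * (y⁻¹ * t) := by rw [hz, one_mul]

/-- the index of `C_K(x)` -/
theorem card_le_two_mul [Finite G] {K : Subgroup G} {z x : G} (hz : z * z = 1) (hzK : ∀ t ∈ K, t * z = z * t)
    (hc : ∀ t ∈ K, x * t = t * x ∨ x * t = t * x * z) :
    Nat.card ↥K ≤ 2 * Nat.card ↥(K ⊓ centralizer ({x} : Set G) : Subgroup G) := by
  classical
  set C := (K ⊓ centralizer ({x} : Set G) : Subgroup G) with hC
  by_cases hK : ∀ t ∈ K, x * t = t * x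
  · have h1 : C = K := inf_eq_left.2 fun t ht => mem_centralizer_singleton_iff.2 (hK t ht).symm
    rw [h1]
    omega
  push Not at hK
  obtain ⟨y, hy, hxy⟩ := hK
  have hy' : x * y = y * x * z := (hc y hy).resolve_left hxy
  have key : ∀ t ∈ K, x * t ≠ t * x → y⁻¹ * t ∈ C := by
    intro t ht h
    have ht' : x * t = t * x * z := (hc t ht).resolve_left h
    exact ⟨K.mul_mem (K.inv_mem hy) ht,
      mem_centralizer_singleton_iff.2 (inv_mul_comm hz (hzK y hy) (hzK t ht) hy' ht')⟩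
  have h2 : Nat.card ↥K ≤ Nat.card (↥C ⊕ ↥C) := by
    refine Nat.card_le_card_of_injective (fun t : ↥K => if h : x * (t : G) = t * x then
      Sum.inl ⟨(t : G), t.2, mem_centralizer_singleton_iff.2 h.symm⟩ else Sum.inr ⟨_, key t t.2 h⟩) ?_
    intro a b hab
    by_cases ha : x * (a : G) = a * x <;> by_cases hb : x * (b : G) = b * x
    · simp only [ha, hb, dif_pos] at hab
      injection hab with h3
      have h4 := congrArg Subtype.val h3
      exact Subtype.ext h4
    · simp [ha, hb] at hab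
    · simp [ha, hb] at hab
    · simp only [ha, hb, dif_neg, not_false_eq_true] at hab
      injection hab with h3
      have h4 := congrArg Subtype.val h3
      exact Subtype.ext (mul_left_cancel h4)
  rw [Nat.card_sum] at h2
  omega

/-- **The centralisers of non-central elements are not abelian.** -/
theorem exists_not_comm [Finite G] {T : Subgroup G} {z s : G} (hz : z * z = 1) (hzT : ∀ t ∈ T, t * z = z * t)
    (hcomm : ∀ a ∈ T, ∀ b ∈ T, a * b = b * a ∨ a * b = b * a * z)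
    (hcen : ∀ c ∈ T, (∀ t ∈ T, c * t = t * c) → c = 1 ∨ c = z) (hcard : 8 < Nat.card ↥T) (hs : s ∈ T)
    (hs1 : s ≠ 1) (hsz : s ≠ z) : ∃ a ∈ T, ∃ b ∈ T, a * s = s * a ∧ b * s = s * b ∧ a * b ≠ b * a := by
  by_contra hcon
  push Not at hcon
  set A := (T ⊓ centralizer ({s} : Set G) : Subgroup G) with hA
  have h1 : Nat.card ↥T ≤ 2 * Nat.card ↥A := card_le_two_mul hz hzT fun t ht => hcomm s hs t ht
  obtain ⟨y, hy, hsy⟩ : ∃ y ∈ T, s * y ≠ y * s := by
    by_contra h
    push Not at h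
    rcases hcen s hs h with h2 | h2
    · exact hs1 h2
    · exact hsz h2
  have h2 : Nat.card ↥A ≤ 2 * Nat.card ↥(A ⊓ centralizer ({y} : Set G) : Subgroup G) :=
    card_le_two_mul hz (fun t ht => hzT t ht.1) fun t ht => hcomm y hy t ht.1
  have hsy' : s * y = y * s * z := (hcomm s hs y hy).resolve_left hsy
  have hAc : ∀ a ∈ A, ∀ b ∈ A, a * b = b * a := fun a ha b hb =>
    hcon a ha.1 b hb.1 (mem_centralizer_singleton_iff.1 ha.2) (mem_centralizer_singleton_iff.1 hb.2)
  have h3 : ∀ c ∈ A ⊓ centralizer ({y} : Set G), c = 1 ∨ c = z := by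
    rintro c ⟨hc, hcy⟩
    have hcy' : c * y = y * c := mem_centralizer_singleton_iff.1 hcy
    refine hcen c hc.1 fun t ht => ?_
    by_cases hst : s * t = t * s
    · exact hAc c hc t ⟨ht, mem_centralizer_singleton_iff.2 hst.symm⟩
    · have hst' : s * t = t * s * z := (hcomm s hs t ht).resolve_left hst
      have h4 : y⁻¹ * t ∈ A := ⟨T.mul_mem (T.inv_mem hy) ht,
        mem_centralizer_singleton_iff.2 (inv_mul_comm hz (hzT y hy) (hzT t ht) hsy' hst')⟩
      have h5 := hAc c hc _ h4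
      calc c * t = (c * y) * (y⁻¹ * t) := by group
        _ = y * (c * (y⁻¹ * t)) := by rw [hcy', mul_assoc]
        _ = y * (y⁻¹ * t * c) := by rw [h5]
        _ = t * c := by group
  have h4 : Nat.card ↥(A ⊓ centralizer ({y} : Set G) : Subgroup G) ≤ 2 := by
    classical
    have h5 : Nat.card ↥(A ⊓ centralizer ({y} : Set G) : Subgroup G) ≤ Nat.card (Fin 2) := by
      refine Nat.card_le_card_of_injective (fun c => if (c : G) = 1 then (0 : Fin 2) else 1) ?_
      intro a b hab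
      rcases h3 a a.2 with ha | ha <;> rcases h3 b b.2 with hb | hb
      · exact Subtype.ext (ha.trans hb.symm)
      · by_cases hz1 : z = 1
        · exact Subtype.ext (ha.trans (hb.trans hz1).symm)
        · simp [ha, hb, hz1] at hab
      · by_cases hz1 : z = 1
        · exact Subtype.ext ((ha.trans hz1).trans hb.symm)
        · simp [ha, hb, hz1] at hab
      · exact Subtype.ext (ha.trans hb.symm)
    rwa [Nat.card_fin] at h5
  omega

end Extra

end Cfsg.Agent.CpAutHNFive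

end

-- merged: Cfsg.Agent.CpAutHNFive.LFive
section

/-!
# Elements of order 5 of `C(W0)/R = (A5 × A5).2`

* `order_five` : an element of order 5, or its square, is conjugate to `φA c5`, `φA c5 φB c5` or `φA c5 φB (c5 ^ 3)`;
* `two_comm` : an involution commuting with `φA c5` is in the second factor;
* `pow_of_comm` : the elements of `LL` commuting with `φA a φB b`, `a`, `b` of order 5, have order dividing 5;
* `mem_LL_of_comm` : the elements commuting with `φA c5 φB (c5 ^ 3)` are in `LL`.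
-/

set_option autoImplicit false

namespace Cfsg.Agent.CpAutHNFive.LFive

open Cfsg.Agent.HN Cfsg.Agent.HN.Pres Cfsg.Agent.HN.P1408 Cfsg.Agent.HN.H0Basic Cfsg.Agent.HN.XMat
open Cfsg.Agent.HN.XStruct Cfsg.Agent.HN.XWords Cfsg.Agent.HN.XQuot Cfsg.Agent.HN.XInst
open Cfsg.Agent
open Cfsg.Agent.KFacts.HN
open Cfsg.Agent.Lib.AltCarmichael (cyc cyc_mem)
open Cfsg.Agent.CpAutHN.LqFacts (conj_A conj_B conj_AB e1_A exists_e1_B)

/-- a 5-cycle of `A5` -/
def c5 : A5 := ⟨cyc 3 0, cyc_mem 3 0 (by norm_num)⟩ * ⟨cyc 3 1, cyc_mem 3 1 (by norm_num)⟩ *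
  ⟨cyc 3 2, cyc_mem 3 2 (by norm_num)⟩

/-- the 5-cycle as a permutation -/
def p5 : Equiv.Perm (Fin 5) := cyc 3 0 * cyc 3 1 * cyc 3 2

theorem c5_val : (c5 : Equiv.Perm (Fin 5)) = p5 := rfl

theorem φA_c5 : φA c5 = e (aw 0 ++ aw 1 ++ aw 2) := by
  rw [c5, map_mul, map_mul, φA_cyc (by norm_num), φA_cyc (by norm_num), φA_cyc (by norm_num), e_append, e_append]

theorem φB_c5 : φB c5 = e (bw 0 ++ bw 1 ++ bw 2) := by
  rw [c5, map_mul, map_mul, φB_cyc (by norm_num), φB_cyc (by norm_num), φB_cyc (by norm_num), e_append, e_append]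

theorem c5_pow : c5 ^ 5 = 1 := by
  apply Subtype.ext
  change p5 ^ 5 = 1
  decide +kernel

theorem c5_ne : c5 ≠ 1 := by
  intro h
  have h1 : p5 = 1 := (congrArg Subtype.val h :)
  exact absurd h1 (by decide +kernel)

theorem c5_order : orderOf c5 = 5 := by
  have : Fact (Nat.Prime 5) := ⟨Nat.prime_five⟩
  exact orderOf_eq_prime c5_pow c5_ne

/-! ### `A5` -/

theorem perm_two : ∀ a : Equiv.Perm (Fin 5), a * a = 1 → a * p5 = p5 * a → a = 1 := by (set_option synthInstance.maxSize 9000 in open scoped Cfsg.Agent.Lib.FastPerm in decide +kernel)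

theorem perm_cent : ∀ a : Equiv.Perm (Fin 5), a * p5 = p5 * a →
    a = 1 ∨ a = p5 ∨ a = p5 ^ 2 ∨ a = p5 ^ 3 ∨ a = p5 ^ 4 := by (set_option synthInstance.maxSize 9000 in open scoped Cfsg.Agent.Lib.FastPerm in decide +kernel)

theorem perm_cube : ∀ a : Equiv.Perm (Fin 5), a * p5 ^ 3 = p5 * a → Equiv.Perm.sign a = 1 → False := by (set_option synthInstance.maxSize 9000 in open scoped Cfsg.Agent.Lib.FastPerm in decide +kernel)

theorem two_c5 {a : A5} (h : a * a = 1) (hc : a * c5 = c5 * a) : a = 1 :=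
  Subtype.ext (perm_two a (congrArg Subtype.val h) ((congrArg Subtype.val hc :)))

theorem cent_c5 {a : A5} (hc : a * c5 = c5 * a) : ∃ k : ℕ, a = c5 ^ k := by
  rcases perm_cent a ((congrArg Subtype.val hc :)) with h | h | h | h | h
  · exact ⟨0, Subtype.ext h⟩
  · exact ⟨1, Subtype.ext (by rw [pow_one]; exact h)⟩
  · exact ⟨2, Subtype.ext h⟩
  · exact ⟨3, Subtype.ext h⟩
  · exact ⟨4, Subtype.ext h⟩

theorem not_cube {a : A5} : a * c5 ^ 3 ≠ c5 * a := by
  intro h
  have h1 := congrArg Subtype.val h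
  rw [Subgroup.coe_mul, Subgroup.coe_mul, Subgroup.coe_pow, c5_val] at h1
  exact perm_cube a h1 (Equiv.Perm.mem_alternatingGroup.1 a.2)

/-- an odd permutation taking the square of the 5-cycle to the 5-cycle -/
theorem exists_odd : ∃ t : Equiv.Perm (Fin 5), t * p5 ^ 2 = p5 * t ∧ Equiv.Perm.sign t = -1 :=
  ⟨List.formPerm [1, 3, 4, 2], by decide +kernel, by decide +kernel⟩

theorem isCycle5 {a : A5} (h5 : a ^ 5 = 1) (h1 : a ≠ 1) : (a : Equiv.Perm (Fin 5)).cycleType = {5} := by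
  have : Fact (Nat.Prime 5) := ⟨Nat.prime_five⟩
  have h4 : orderOf (a : Equiv.Perm (Fin 5)) = 5 := by
    rw [Subgroup.orderOf_coe]
    exact orderOf_eq_prime h5 h1
  obtain ⟨n, hn⟩ := Equiv.Perm.cycleType_prime_order (σ := (a : Equiv.Perm (Fin 5))) (by rw [h4]; norm_num)
  rw [h4] at hn
  have h5 : ((a : Equiv.Perm (Fin 5)).cycleType).sum ≤ 5 := by
    rw [Equiv.Perm.sum_cycleType]
    exact (Finset.card_le_univ _).trans (by simp)
  rw [hn, Multiset.sum_replicate, smul_eq_mul] at h5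
  have h6 : n = 0 := by omega
  rw [h6] at hn
  exact hn

theorem conj_c5 {a : A5} (h5 : a ^ 5 = 1) (h1 : a ≠ 1) :
    ∃ g : A5, g * a * g⁻¹ = c5 ∨ g * a ^ 2 * g⁻¹ = c5 := by
  have h2 : IsConj (a : Equiv.Perm (Fin 5)) (c5 : Equiv.Perm (Fin 5)) := by
    rw [Equiv.Perm.isConj_iff_cycleType_eq, isCycle5 h5 h1, isCycle5 c5_pow c5_ne]
  obtain ⟨g, hg⟩ := isConj_iff.1 h2
  rcases Int.units_eq_one_or (Equiv.Perm.sign g) with hs | hs
  · refine ⟨⟨g, Equiv.Perm.mem_alternatingGroup.2 hs⟩, Or.inl (Subtype.ext hg)⟩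
  · obtain ⟨t, ht, hts⟩ := exists_odd
    have hs2 : Equiv.Perm.sign (t * g) = 1 := by rw [Equiv.Perm.sign_mul, hs, hts]; rfl
    refine ⟨⟨t * g, Equiv.Perm.mem_alternatingGroup.2 hs2⟩, Or.inr (Subtype.ext ?_)⟩
    change t * g * (a : Equiv.Perm (Fin 5)) ^ 2 * (t * g)⁻¹ = p5
    have h3 : g * (a : Equiv.Perm (Fin 5)) ^ 2 * g⁻¹ = p5 ^ 2 := by
      have h4 : g * (a : Equiv.Perm (Fin 5)) * g⁻¹ = p5 := hg
      rw [← h4, pow_two, pow_two]; group
    calc t * g * (a : Equiv.Perm (Fin 5)) ^ 2 * (t * g)⁻¹ = t * (g * (a : Equiv.Perm (Fin 5)) ^ 2 * g⁻¹) * t⁻¹ := by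
          group
      _ = t * p5 ^ 2 * t⁻¹ := by rw [h3]
      _ = p5 := by rw [ht, mul_inv_cancel_right]

/-- the second coordinate -/
theorem conj_c5' {a : A5} (h5 : a ^ 5 = 1) (h1 : a ≠ 1) : ∃ g : A5, g * a * g⁻¹ = c5 ∨ g * a * g⁻¹ = c5 ^ 3 := by
  obtain ⟨g, hg | hg⟩ := conj_c5 h5 h1
  · exact ⟨g, Or.inl hg⟩
  · refine ⟨g, Or.inr ?_⟩
    have h2 : (g * a ^ 2 * g⁻¹) ^ 3 = g * a * g⁻¹ := by
      have h3 : (g * a ^ 2 * g⁻¹) ^ 3 = g * a ^ 6 * g⁻¹ := by
        rw [pow_succ, pow_two, show a ^ 6 = a ^ 2 * a ^ 2 * a ^ 2 by rw [← pow_add, ← pow_add]]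
        group
      rw [h3, show a ^ 6 = a ^ 5 * a from pow_succ a 5, h5, one_mul]
    rw [← h2, hg]

/-! ### `Lq` -/

/-- coordinates -/
theorem pow_coord {a b : A5} {n : ℕ} (h : (φA a * φB b) ^ n = 1) : a ^ n = 1 ∧ b ^ n = 1 := by
  apply φ2_inj
  rw [map_pow, map_pow, ← (show Commute (φA a) (φB b) from comm_AB a b).mul_pow, h, map_one, map_one, one_mul]

theorem pow_AB (a b : A5) (n : ℕ) : (φA a * φB b) ^ n = φA (a ^ n) * φB (b ^ n) := by
  rw [map_pow, map_pow, ← (show Commute (φA a) (φB b) from comm_AB a b).mul_pow]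

/-- elements of odd order are in `LL` -/
theorem mem_LL_of_five {z : Lq} (h5 : z ^ 5 = 1) : z ∈ LL := by
  have h2 : (z ^ 2) ^ 3 = z := by
    rw [← pow_mul, show 2 * 3 = 5 + 1 from rfl, pow_add, h5, one_mul, pow_one]
  rw [← h2]
  exact LL.pow_mem (Subgroup.sq_mem_of_index_two index_LL z) 3

/-- **elements of order 5** -/
theorem order_five {z : Lq} (h5 : z ^ 5 = 1) (h1 : z ≠ 1) :
    ∃ g : Lq, ∃ m : ℕ, 1 ≤ m ∧ m < 5 ∧ (g * z ^ m * g⁻¹ = φA c5 ∨ g * z ^ m * g⁻¹ = φA c5 * φB c5 ∨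
      g * z ^ m * g⁻¹ = φA c5 * φB (c5 ^ 3)) := by
  -- the first coordinate `≠ 1`
  have key : ∀ a b : A5, a ^ 5 = 1 → b ^ 5 = 1 → a ≠ 1 → ∃ g : Lq, ∃ m : ℕ, 1 ≤ m ∧ m < 5 ∧
      (g * (φA a * φB b) ^ m * g⁻¹ = φA c5 ∨ g * (φA a * φB b) ^ m * g⁻¹ = φA c5 * φB c5 ∨
        g * (φA a * φB b) ^ m * g⁻¹ = φA c5 * φB (c5 ^ 3)) := by
    intro a b ha hb ha1
    obtain ⟨m, hm1, hm5, g, hg⟩ : ∃ m : ℕ, 1 ≤ m ∧ m < 3 ∧ ∃ g : A5, g * a ^ m * g⁻¹ = c5 := by
      obtain ⟨g, hg | hg⟩ := conj_c5 ha ha1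
      · exact ⟨1, le_refl _, by norm_num, g, by rw [pow_one]; exact hg⟩
      · exact ⟨2, by norm_num, by norm_num, g, hg⟩
    by_cases hb1 : b ^ m = 1
    · refine ⟨φA g * φB 1, m, hm1, by omega, Or.inl ?_⟩
      rw [pow_AB, conj_AB, hg, hb1]
      simp only [mul_one, inv_one, map_one]
    · have hbm : (b ^ m) ^ 5 = 1 := by rw [← pow_mul, mul_comm, pow_mul, hb, one_pow]
      obtain ⟨h, hh⟩ := conj_c5' hbm hb1
      refine ⟨φA g * φB h, m, hm1, by omega, Or.inr ?_⟩
      rw [pow_AB, conj_AB, hg]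
      rcases hh with hh | hh
      · exact Or.inl (by rw [hh])
      · exact Or.inr (by rw [hh])
  obtain ⟨a, b, rfl⟩ := mem_LL.1 (mem_LL_of_five h5)
  obtain ⟨ha, hb⟩ := pow_coord h5
  by_cases ha1 : a = 1
  · have hb1 : b ≠ 1 := by
      rintro rfl
      exact h1 (by rw [ha1, map_one, map_one, one_mul])
    obtain ⟨g, m, hm1, hm5, h⟩ := key b 1 hb (one_pow 5) hb1
    refine ⟨g * e [1], m, hm1, hm5, ?_⟩
    have h3 : g * e [1] * (φA a * φB b) ^ m * (g * e [1])⁻¹ = g * (φA b * φB 1) ^ m * g⁻¹ := by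
      rw [pow_AB, pow_AB, ha1, one_pow, map_one, map_one, one_mul, mul_one, ← e1_A (b ^ m)]
      group
    rw [h3]
    exact h
  · exact key a b ha hb ha1

/-- elements commuting with `φA c5` -/
theorem coord_of_comm {a b a' b' : A5} (hc : φA a * φB b * (φA a' * φB b') = φA a' * φB b' * (φA a * φB b)) :
    a * a' = a' * a ∧ b * b' = b' * b := by
  have h1 : φA a * φB b * (φA a' * φB b') * (φA a * φB b)⁻¹ = φA a' * φB b' := by rw [hc]; group
  rw [conj_AB] at h1
  obtain ⟨h2, h3⟩ := φ2_inj h1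
  exact ⟨mul_inv_eq_iff_eq_mul.1 h2, mul_inv_eq_iff_eq_mul.1 h3⟩

/-- an involution commuting with `φA c5` is in the second factor -/
theorem two_comm {z : Lq} (h2 : z * z = 1) (hc : z * φA c5 = φA c5 * z) : ∃ b : A5, z = φB b := by
  obtain ⟨a, b, rfl⟩ := mem_LL.1 (CpAutHN.LqFacts.mem_LL_of_comm c5_ne hc)
  obtain ⟨h3, -⟩ := pow_coord (n := 2) (by rw [pow_two]; exact h2)
  obtain ⟨h4, -⟩ := coord_of_comm (a := a) (b := b) (a' := c5) (b' := 1) (by
    rw [map_one, mul_one]; exact hc)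
  refine ⟨b, ?_⟩
  rw [two_c5 (by rw [← pow_two]; exact h3) h4, map_one, one_mul]

/-- the elements of `LL` commuting with `φA c5 φB (c5 ^ k)` -/
theorem exists_pow {z : Lq} (hz : z ∈ LL) {k : ℕ} (hk : k = 1 ∨ k = 3)
    (hc : z * (φA c5 * φB (c5 ^ k)) = φA c5 * φB (c5 ^ k) * z) : ∃ i j : ℕ, z = φA (c5 ^ i) * φB (c5 ^ j) := by
  obtain ⟨a, b, rfl⟩ := mem_LL.1 hz
  obtain ⟨h1, h2⟩ := coord_of_comm hc
  obtain ⟨i, rfl⟩ := cent_c5 h1
  have h3 : b * c5 = c5 * b := by
    rcases hk with rfl | rfl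
    · rwa [pow_one] at h2
    · have h4 : (c5 ^ 3) ^ 2 = c5 := by
        rw [← pow_mul, show 3 * 2 = 5 + 1 from rfl, pow_add, c5_pow, one_mul, pow_one]
      have h5 : Commute b (c5 ^ 3) := h2
      have h6 := (h5.pow_right 2).eq
      rwa [h4] at h6
  obtain ⟨j, rfl⟩ := cent_c5 h3
  exact ⟨i, j, rfl⟩

theorem pow_of_comm {z : Lq} (hz : z ∈ LL) {k : ℕ} (hk : k = 1 ∨ k = 3)
    (hc : z * (φA c5 * φB (c5 ^ k)) = φA c5 * φB (c5 ^ k) * z) : z ^ 5 = 1 := by
  obtain ⟨i, j, rfl⟩ := exists_pow hz hk hc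
  have h : ∀ i : ℕ, (c5 ^ i) ^ 5 = 1 := by
    intro i
    rw [← pow_mul, mul_comm, pow_mul, c5_pow, one_pow]
  rw [pow_AB, h, h, map_one, map_one, one_mul]

/-- the elements commuting with `φA c5 φB (c5 ^ 3)` are in `LL` -/
theorem mem_LL_of_comm {z : Lq} (hc : z * (φA c5 * φB (c5 ^ 3)) = φA c5 * φB (c5 ^ 3) * z) : z ∈ LL := by
  rcases LL_or z with h1 | ⟨y, hy, rfl⟩
  · exact h1
  · exfalso
    obtain ⟨a, b, rfl⟩ := mem_LL.1 hy
    -- conjugation by `e [1]` swaps the factors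
    obtain ⟨d, hd⟩ := exists_e1_B (1 : A5)
    obtain ⟨y, hy⟩ : ∃ y : A5, e [1] * φA c5 * (e [1])⁻¹ = φB y := by
      obtain ⟨a', b', hab⟩ := mem_LL.1 e11_mem
      refine ⟨b' * c5 * b'⁻¹, ?_⟩
      rw [← conj_B a' b' c5, hab, φB_apply, show ([1, 1] : List ℕ) = [1] ++ [1] from rfl, e_append]
      group
    have h2 : φA a * φB b * e [1] * (φA c5 * φB (c5 ^ 3)) * (φA a * φB b * e [1])⁻¹ = φA c5 * φB (c5 ^ 3) := by
      rw [hc, mul_inv_cancel_right]
    have h3 : φA a * φB b * e [1] * (φA c5 * φB (c5 ^ 3)) * (φA a * φB b * e [1])⁻¹ =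
        φA (a * c5 ^ 3 * a⁻¹) * φB (b * y * b⁻¹) := by
      have h4 : e [1] * (φA c5 * φB (c5 ^ 3)) * (e [1])⁻¹ = φA (c5 ^ 3) * φB y := by
        rw [← e1_A (c5 ^ 3), ← hy]
        have h5 := comm_AB (c5 : A5) (c5 ^ 3)
        calc e [1] * (φA c5 * φB (c5 ^ 3)) * (e [1])⁻¹ = e [1] * (φB (c5 ^ 3) * φA c5) * (e [1])⁻¹ := by rw [h5]
          _ = _ := by group
      calc φA a * φB b * e [1] * (φA c5 * φB (c5 ^ 3)) * (φA a * φB b * e [1])⁻¹
          = φA a * φB b * (e [1] * (φA c5 * φB (c5 ^ 3)) * (e [1])⁻¹) * (φA a * φB b)⁻¹ := by group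
        _ = _ := by rw [h4, conj_AB]
    rw [h3] at h2
    obtain ⟨h5, -⟩ := φ2_inj h2
    exact not_cube (mul_inv_eq_iff_eq_mul.1 h5)

end Cfsg.Agent.CpAutHNFive.LFive

end

-- merged: Cfsg.Agent.CpAutHNFive.PFive
section

/-!
# Elements of order 5 of `C(W0)`: the three types

* `conj_std` : an element of order 5 of `PP = C(W0)` has a power conjugate in `PP` to `x` with `ρ x = φA c5` (type I),
  `ρ x = φA c5 φB c5` (type III) or `ρ x = φA c5 φB (c5 ^ 3)` (type II);
* `only_one` : type I : the only involution of `C(W0) ∩ C(x)` is `W0`;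
* `outer_three` : type III : an involution `v ≠ W0` of `C(W0) ∩ C(x)` has `v` or `v W0` conjugate to `ψ τ`;
* `mem_RS_two` : type II : the 2-elements of `C(W0) ∩ C(x)` are in `R`; `card_two` : `|C_R(x)| ≥ 16`.
-/

set_option autoImplicit false

namespace Cfsg.Agent.CpAutHNFive.PFive

open Cfsg.Agent.HN Cfsg.Agent.HN.Pres Cfsg.Agent.HN.P1408 Cfsg.Agent.HN.H0Basic Cfsg.Agent.HN.XMat
open Cfsg.Agent.HN.XStruct Cfsg.Agent.HN.XWords Cfsg.Agent.HN.XQuot Cfsg.Agent.HN.XInst
open Cfsg.Agent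
open Cfsg.Agent.KFacts.HN
open Cfsg.Agent.CpAutHN.PPFacts (isPGroup_ker acts_of_ρ app_eq_of_comm mem_ker_iff sgn0_cases)
open Cfsg.Agent.CpAutHN.LqFacts (not_conj_B xi2_A xi2_B xi3_A xi3_B)
open Cfsg.Agent.CpAutHNFive.LFive
open Cfsg.Agent.SporadicA.PermTab (band_eq_true allB allB_iff)
open Cfsg.Agent.KFacts.HN.Classes (x3 x3_nf x3_comm isConj_x3 π_ev)

theorem ρ_ne [Finite Cfsg.Spor.HN] {x : PP} (hx : orderOf x = 5) : ρ x ≠ 1 := by
  intro h
  have h1 : x ∈ ρ.ker := h
  have h2 : orderOf (⟨x, h1⟩ : ↥ρ.ker) ∣ Nat.card ↥ρ.ker := orderOf_dvd_natCard _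
  rw [← Subgroup.orderOf_coe, card_ker] at h2
  change orderOf x ∣ 512 at h2
  rw [hx] at h2
  norm_num at h2

/-- standard forms -/
theorem conj_std [Finite Cfsg.Spor.HN] {x : PP} (hx : orderOf x = 5) :
    ∃ (g : PP) (m : ℕ), 1 ≤ m ∧ m < 5 ∧ (ρ (g * x ^ m * g⁻¹) = φA c5 ∨ ρ (g * x ^ m * g⁻¹) = φA c5 * φB c5 ∨
      ρ (g * x ^ m * g⁻¹) = φA c5 * φB (c5 ^ 3)) := by
  have h5 : ρ x ^ 5 = 1 := by rw [← map_pow, ← hx, pow_orderOf_eq_one, map_one]
  obtain ⟨z, m, hm1, hm5, hz⟩ := order_five h5 (ρ_ne hx)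
  obtain ⟨g, rfl⟩ := ρ_surj z
  refine ⟨g, m, hm1, hm5, ?_⟩
  rw [map_mul, map_mul, map_inv, map_pow]
  exact hz

/-! ### the first type -/

/-- the word of `φA c5` -/
def vA : List ℕ := aw 0 ++ aw 1 ++ aw 2
/-- the word of `φB c5` -/
def vB : List ℕ := bw 0 ++ bw 1 ++ bw 2

theorem chkA : allB (fun m => Nat.beq m 0 || Nat.beq (app (mw vA) m) m == false) 256 = true := by decide +kernel

theorem fix_A {m : ℕ} (hm : m < 256) (h : app (mw vA) m = m) : m = 0 := by
  have h1 := (allB_iff _ _).1 chkA m hm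
  rw [Bool.or_eq_true] at h1
  rcases h1 with h1 | h1
  · exact Nat.eq_of_beq_eq_true h1
  · rw [h, Nat.beq_refl] at h1
    exact absurd h1 (by decide)

/-- the square of the lift of the first class of involutions is `W0` -/
theorem not_first {v g : Cfsg.Spor.HN} (hg : g ∈ PP) (hc : v ∈ PP) (hv : v * v = 1)
    (h1 : π W0 g * π W0 v * (π W0 g)⁻¹ = evw γ [0, 2, 0, 2, 0, 2]) : False := by
  have hs := mem_PP.1 hg
  have hc := mem_PP.1 hc
  have h2 : π W0 (g * v * g⁻¹) = π W0 (evw _root_.Cfsg.Agent.HN.XWords.Γ [0, 2, 0, 2, 0, 2]) := by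
    rw [π_mul (comm_mul hs hc) (comm_inv hs), π_mul hs hc, π_inv hs, h1, π_e]
  have h3 : (g * v * g⁻¹) * (g * v * g⁻¹) = 1 := by
    calc (g * v * g⁻¹) * (g * v * g⁻¹) = g * (v * v) * g⁻¹ := by group
      _ = 1 := by rw [hv]; group
  have h4 : (g * v * g⁻¹) * (g * v * g⁻¹) = W0 := by
    have hce := cwe [0, 2, 0, 2, 0, 2]
    rcases (π_eq_iff W0_sq (comm_mul (comm_mul hs hc) (comm_inv hs)) hce.symm).1 h2 with h5 | h5
    · rw [← h5, yh6]
    · have h6 : g * v * g⁻¹ = evw _root_.Cfsg.Agent.HN.XWords.Γ [0, 2, 0, 2, 0, 2] * W0 := by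
        rw [h5, mul_assoc (g * v * g⁻¹) W0 W0, W0_sq, mul_one]
      rw [h6]
      calc evw _root_.Cfsg.Agent.HN.XWords.Γ [0, 2, 0, 2, 0, 2] * W0 * (evw _root_.Cfsg.Agent.HN.XWords.Γ [0, 2, 0, 2, 0, 2] * W0)
          = evw _root_.Cfsg.Agent.HN.XWords.Γ [0, 2, 0, 2, 0, 2] * (W0 * evw _root_.Cfsg.Agent.HN.XWords.Γ [0, 2, 0, 2, 0, 2]) * W0 := by group
        _ = (evw _root_.Cfsg.Agent.HN.XWords.Γ [0, 2, 0, 2, 0, 2] * evw _root_.Cfsg.Agent.HN.XWords.Γ [0, 2, 0, 2, 0, 2]) * (W0 * W0) := by rw [hce]; group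
        _ = W0 := by rw [yh6, W0_sq, mul_one]
  exact W0_ne (h4.symm.trans h3)

/-- the classes of involutions of `C(W0)` outside `R` -/
theorem inv_cases [Finite Cfsg.Spor.HN] {v : PP} (hv : (v : Cfsg.Spor.HN) * v = 1) : ρ v = 1 ∨
    ∃ g : PP, (π W0 (g : Cfsg.Spor.HN) * π W0 (v : Cfsg.Spor.HN) * (π W0 (g : Cfsg.Spor.HN))⁻¹ = xi2 k γ ∧
      ρ g * ρ v * (ρ g)⁻¹ = e [0, 1, 1, 1, 0, 0, 1]) ∨
      (π W0 (g : Cfsg.Spor.HN) * π W0 (v : Cfsg.Spor.HN) * (π W0 (g : Cfsg.Spor.HN))⁻¹ = xi3 k γ ∧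
      ρ g * ρ v * (ρ g)⁻¹ = e [0, 1, 0, 1, 1]) := by
  have hc := mem_PP.1 v.2
  have hsq : π W0 (v : Cfsg.Spor.HN) * π W0 (v : Cfsg.Spor.HN) = 1 := by rw [← π_mul hc hc, hv, π_one]
  have hρ : ρ v = QuotientGroup.mk (s := Rk) (π W0 (v : Cfsg.Spor.HN)) := ρ_apply v
  rcases Cfsg.Agent.HN.XClose.involution_cases hyp disj hsq with h1 | ⟨g, h1⟩
  · left
    rw [hρ, QuotientGroup.eq_one_iff]
    exact h1
  · right
    obtain ⟨s, hs, rfl⟩ := π_surj g
    have hρg : ρ ⟨s, mem_PP.2 hs⟩ = QuotientGroup.mk (s := Rk) (π W0 s) := ρ_apply _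
    refine ⟨⟨s, mem_PP.2 hs⟩, ?_⟩
    rcases h1 with h1 | h1 | h1
    · exact (not_first (mem_PP.2 hs) v.2 hv h1).elim
    · left
      refine ⟨h1, ?_⟩
      have h2 : (QuotientGroup.mk (s := Rk) (π W0 s)) * QuotientGroup.mk (s := Rk) (π W0 (v : Cfsg.Spor.HN)) *
          (QuotientGroup.mk (s := Rk) (π W0 s))⁻¹ = QuotientGroup.mk (s := Rk) (xi2 k γ) := by rw [← h1]; rfl
      rw [hρg, hρ, h2]
      have h3 : (QuotientGroup.mk (s := Rk) (r k 45) : Lq) = 1 :=
        (QuotientGroup.eq_one_iff _).2 (mem_Rk.2 ⟨45, by norm_num, rfl⟩)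
      change QuotientGroup.mk (s := Rk) (r k 45) * e [0, 1, 1, 1, 0, 0, 1] = _
      rw [h3, one_mul]
    · right
      refine ⟨h1, ?_⟩
      have h2 : (QuotientGroup.mk (s := Rk) (π W0 s)) * QuotientGroup.mk (s := Rk) (π W0 (v : Cfsg.Spor.HN)) *
          (QuotientGroup.mk (s := Rk) (π W0 s))⁻¹ = QuotientGroup.mk (s := Rk) (xi3 k γ) := by rw [← h1]; rfl
      rw [hρg, hρ, h2]
      have h3 : (QuotientGroup.mk (s := Rk) (r k 92) : Lq) = 1 :=
        (QuotientGroup.eq_one_iff _).2 (mem_Rk.2 ⟨92, by norm_num, rfl⟩)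
      change QuotientGroup.mk (s := Rk) (r k 92) * e [0, 1, 0, 1, 1] = _
      rw [h3, one_mul]

/-- an element of `R` commuting with an element whose action fixes only the mask `0` -/
theorem eq_of_ker [Finite Cfsg.Spor.HN] {x v : PP} {w : List ℕ} (hw : ρ x = e w)
    (hfix : ∀ m < 256, app (mw w) m = m → m = 0) (hv : ρ v = 1) (h : v * x = x * v) :
    (v : Cfsg.Spor.HN) = 1 ∨ (v : Cfsg.Spor.HN) = W0 := by
  obtain ⟨m, hm, c, hvm⟩ := mem_ker_iff.1 (show v ∈ ρ.ker from hv)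
  have h1 := hfix m hm (app_eq_of_comm hw hm hvm h)
  rw [h1, show r Q 0 = 1 from Bas.r_zero, one_mul] at hvm
  rw [hvm]
  exact sgn0_cases c

/-- type I : the only involution of `C(W0)` commuting with `x` is `W0` -/
theorem only_one [Finite Cfsg.Spor.HN] {x v : PP} (hx : ρ x = φA c5) (hv : (v : Cfsg.Spor.HN) * v = 1)
    (h : v * x = x * v) : (v : Cfsg.Spor.HN) = 1 ∨ (v : Cfsg.Spor.HN) = W0 := by
  have hvv : v * v = 1 := Subtype.ext hv
  obtain ⟨b, hb⟩ := two_comm (z := ρ v) (by rw [← map_mul, hvv, map_one]) (by rw [← hx, ← map_mul, h, map_mul])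
  rcases inv_cases hv with h1 | ⟨g, ⟨-, h1⟩ | ⟨-, h1⟩⟩
  · exact eq_of_ker (hx.trans φA_c5) (fun m hm h => fix_A hm h) h1 h
  · rw [hb] at h1
    exact (not_conj_B xi2_A xi2_B b _ h1).elim
  · rw [hb] at h1
    exact (not_conj_B xi3_A xi3_B b _ h1).elim

/-! ### the third type -/

theorem chkAB : allB (fun m => Nat.beq m 0 || Nat.beq (app (mw (vA ++ vB)) m) m == false) 256 = true := by
  decide +kernel

theorem fix_AB {m : ℕ} (hm : m < 256) (h : app (mw (vA ++ vB)) m = m) : m = 0 := by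
  have h1 := (allB_iff _ _).1 chkAB m hm
  rw [Bool.or_eq_true] at h1
  rcases h1 with h1 | h1
  · exact Nat.eq_of_beq_eq_true h1
  · rw [h, Nat.beq_refl] at h1
    exact absurd h1 (by decide)

theorem ρ_AB {x : PP} (hx : ρ x = φA c5 * φB c5) : ρ x = e (vA ++ vB) := by
  rw [hx, e_append, φA_c5, φB_c5]
  rfl

theorem eq_one_of_LL {v : Lq} (hv : v * v = 1) (hL : v ∈ LL) {k : ℕ} (hk : k = 1 ∨ k = 3)
    (hc : v * (φA c5 * φB (c5 ^ k)) = φA c5 * φB (c5 ^ k) * v) : v = 1 := by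
  have h5 := pow_of_comm hL hk hc
  have h6 : v ^ 5 = v := by
    rw [pow_succ, show v ^ 4 = (v ^ 2) ^ 2 by rw [← pow_mul], pow_two v, hv, one_pow, one_mul]
  rw [← h6, h5]

theorem xi2_mem : e [0, 1, 1, 1, 0, 0, 1] ∈ LL := by
  have h : e [0, 1, 1, 1, 0, 0, 1] = e [0] * e [1, 1] * e [1] * (e [0] * e [0]) * e [1] := by
    rw [← e_append, ← e_append, ← e_append, ← e_append, ← e_append]
    rfl
  rw [h]
  have h1 : e [0] * e [1, 1] ∈ LL := LL.mul_mem e0_mem e11_mem
  have h2 : (e [0] * e [0]) ∈ LL := LL.mul_mem e0_mem e0_mem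
  have h3 : e [0] * e [1, 1] * e [1] ∉ LL := by
    rw [Subgroup.mul_mem_iff_of_index_two index_LL]
    have := e1_notMem
    tauto
  have h4 : e [0] * e [1, 1] * e [1] * (e [0] * e [0]) ∉ LL := by
    rw [Subgroup.mul_mem_iff_of_index_two index_LL]
    (clear * - h2 h3; tauto)
  rw [Subgroup.mul_mem_iff_of_index_two index_LL]
  have := e1_notMem
  (clear * - h4 this; tauto)

/-- **type III : involutions commuting with `x`** -/
theorem outer_three [Finite Cfsg.Spor.HN] {x v : PP} (hx : ρ x = φA c5 * φB c5) (hv : (v : Cfsg.Spor.HN) * v = 1)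
    (h : v * x = x * v) (h1 : (v : Cfsg.Spor.HN) ≠ 1) (hW : (v : Cfsg.Spor.HN) ≠ W0) :
    IsConj (Cfsg.Agent.HN.NormalH.ψ τ) (v : Cfsg.Spor.HN) ∨
      IsConj (Cfsg.Agent.HN.NormalH.ψ τ) ((v : Cfsg.Spor.HN) * W0) := by
  have hvv : v * v = 1 := Subtype.ext hv
  have hvL : ρ v ∉ LL := by
    intro hL
    have h2 : ρ v = 1 := eq_one_of_LL (k := 1) (by rw [← map_mul, hvv, map_one]) hL (Or.inl rfl) (by
      rw [pow_one, ← hx, ← map_mul, h, map_mul])
    rcases eq_of_ker (ρ_AB hx) (fun m hm h => fix_AB hm h) h2 h with h3 | h3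
    · exact h1 h3
    · exact hW h3
  have hn : LL.Normal := Subgroup.normal_of_index_eq_two index_LL
  rcases inv_cases hv with h2 | ⟨g, ⟨-, h2⟩ | ⟨h2, -⟩⟩
  · exfalso
    apply hvL
    rw [h2]
    exact LL.one_mem
  · exfalso
    apply hvL
    have h3 : ρ v = (ρ g)⁻¹ * e [0, 1, 1, 1, 0, 0, 1] * (ρ g)⁻¹⁻¹ := by rw [← h2]; group
    rw [h3]
    exact hn.conj_mem _ xi2_mem _
  · have hs := mem_PP.1 g.2
    have hc := mem_PP.1 v.2
    have h3 : π W0 ((g : Cfsg.Spor.HN) * v * (g : Cfsg.Spor.HN)⁻¹) = π W0 x3 := by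
      rw [π_mul (comm_mul hs hc) (comm_inv hs), π_mul hs hc, π_inv hs, h2, x3_nf, π_ev]
      rfl
    rcases (π_eq_iff W0_sq (comm_mul (comm_mul hs hc) (comm_inv hs)) x3_comm).1 h3 with h4 | h4
    · left
      refine isConj_x3.trans ?_
      rw [h4]
      exact (isConj_iff.2 ⟨(g : Cfsg.Spor.HN), rfl⟩ : IsConj (v : Cfsg.Spor.HN) _).symm
    · right
      refine isConj_x3.trans ?_
      rw [h4]
      refine (isConj_iff.2 ⟨(g : Cfsg.Spor.HN), ?_⟩ : IsConj ((v : Cfsg.Spor.HN) * W0) _).symm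
      calc (g : Cfsg.Spor.HN) * (v * W0) * (g : Cfsg.Spor.HN)⁻¹ = g * v * (W0 * (g : Cfsg.Spor.HN)⁻¹) := by group
        _ = g * v * ((g : Cfsg.Spor.HN)⁻¹ * W0) := by rw [comm_inv hs]
        _ = _ := by group

/-! ### the second type -/

/-- the word of `φA c5 φB (c5 ^ 3)` -/
def vC : List ℕ := vA ++ (vB ++ vB ++ vB)

theorem ρ_C {x : PP} (hx : ρ x = φA c5 * φB (c5 ^ 3)) : ρ x = e vC := by
  rw [hx, vC, e_append, e_append, e_append, φA_c5, map_pow, φB_c5, pow_succ, pow_two]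
  rfl

/-- the fixed masks -/
def fixC : List ℕ := (List.range 256).filter fun m => Nat.beq (app (mw vC) m) m

theorem length_fixC : fixC.length = 16 := by decide +kernel

theorem mem_fixC {m : ℕ} : m ∈ fixC ↔ m < 256 ∧ app (mw vC) m = m := by
  rw [fixC, List.mem_filter, List.mem_range]
  constructor
  · rintro ⟨h1, h2⟩
    exact ⟨h1, Nat.eq_of_beq_eq_true h2⟩
  · rintro ⟨h1, h2⟩
    refine ⟨h1, ?_⟩
    rw [h2, Nat.beq_refl]

/-- the elements of `R` with fixed masks commute with `x` -/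
theorem comm_of_fix {x : PP} (h5 : x ^ 5 = 1) (hx : ρ x = φA c5 * φB (c5 ^ 3)) {m : ℕ} (hm : m ∈ fixC) :
    r Q m * (x : Cfsg.Spor.HN) = x * r Q m := by
  obtain ⟨hm1, hm2⟩ := mem_fixC.1 hm
  obtain ⟨d, hd⟩ := r_conj x.2 (acts_of_ρ (ρ_C hx)) m
  rw [hm2] at hd
  have hx5 : (x : Cfsg.Spor.HN) ^ 5 = 1 := congrArg Subtype.val h5
  have hd' : r Q m * (x : Cfsg.Spor.HN) = x * (r Q m * sgn0 d) := by rw [← hd]; group
  cases d
  · rw [hd']
    change (x : Cfsg.Spor.HN) * (r Q m * 1) = _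
    rw [mul_one]
  · exfalso
    have hd2 : r Q m * (x : Cfsg.Spor.HN) = x * (r Q m * W0) := hd'
    have hxW : W0 * (x : Cfsg.Spor.HN) = x * W0 := (mem_PP.1 x.2).symm
    have key : ∀ n : ℕ, r Q m * (x : Cfsg.Spor.HN) ^ n = x ^ n * (r Q m * W0 ^ n) := by
      intro n
      induction n with
      | zero => simp
      | succ n ih =>
        have hWn : W0 ^ n * (x : Cfsg.Spor.HN) = x * W0 ^ n := (show Commute W0 (x : Cfsg.Spor.HN) from hxW).pow_left n
        calc r Q m * (x : Cfsg.Spor.HN) ^ (n + 1) = (r Q m * x ^ n) * x := by rw [pow_succ, mul_assoc]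
          _ = x ^ n * (r Q m * (W0 ^ n * x)) := by rw [ih]; group
          _ = x ^ n * ((r Q m * x) * W0 ^ n) := by rw [hWn]; group
          _ = x ^ (n + 1) * (r Q m * W0 ^ (n + 1)) := by rw [hd2, pow_succ, pow_succ' W0]; group
    have h6 := key 5
    rw [hx5, mul_one, one_mul] at h6
    have h7 : W0 ^ 5 = 1 := (mul_eq_left.1 h6.symm)
    have h8 : W0 ^ 5 = W0 := by
      rw [pow_succ, show W0 ^ 4 = (W0 ^ 2) ^ 2 by rw [← pow_mul], pow_two W0, W0_sq, one_pow, one_mul]
    exact W0_ne (h8.symm.trans h7)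

open Subgroup in
theorem card_of_list [Finite Cfsg.Spor.HN] {C : Subgroup Cfsg.Spor.HN} {L : List ℕ} (hL : L.length = 16)
    (hnd : L.Nodup) (h : ∀ m ∈ L, m < 256 ∧ r Q m ∈ C) : 8 < Nat.card ↥C := by
  have h1 : Nat.card (Fin L.length) ≤ Nat.card ↥C := by
    refine Nat.card_le_card_of_injective (fun i : Fin L.length => ⟨r Q (L.get i), (h _ (List.get_mem _ _)).2⟩) ?_
    intro i j hij
    have h2 : r Q (L.get i) = r Q (L.get j) := congrArg Subtype.val hij
    have h3 := (r_sgn_inj (b := false) (b' := false) (h _ (List.get_mem L i)).1 (h _ (List.get_mem L j)).1 (by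
      change r Q (L.get i) * 1 = r Q (L.get j) * 1
      rw [h2])).1
    exact (hnd.get_inj_iff).1 h3
  rw [Nat.card_eq_fintype_card, Fintype.card_fin, hL] at h1
  omega

open Subgroup in
/-- type II : `C_R(x)` has at least 16 elements -/
theorem card_two [Finite Cfsg.Spor.HN] {x : PP} (h5 : x ^ 5 = 1) (hx : ρ x = φA c5 * φB (c5 ^ 3)) :
    8 < Nat.card ↥(RS ⊓ centralizer ({(x : Cfsg.Spor.HN)} : Set Cfsg.Spor.HN) : Subgroup Cfsg.Spor.HN) := by
  refine card_of_list length_fixC (List.nodup_range.filter _) fun m hm => ⟨(mem_fixC.1 hm).1, ?_⟩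
  exact ⟨r_mem_RS (mem_fixC.1 hm).1, mem_centralizer_singleton_iff.2 (comm_of_fix h5 hx hm)⟩

/-- type II : the 2-elements of `C(W0)` commuting with `x` are in `R` -/
theorem ρ_two {x v : PP} (hx : ρ x = φA c5 * φB (c5 ^ 3)) (h : v * x = x * v) {n : ℕ} (hn : v ^ 2 ^ n = 1) :
    ρ v = 1 := by
  have hc : ρ v * (φA c5 * φB (c5 ^ 3)) = φA c5 * φB (c5 ^ 3) * ρ v := by rw [← hx, ← map_mul, h, map_mul]
  have h5 := pow_of_comm (mem_LL_of_comm hc) (Or.inr rfl) hc
  have h2 : (ρ v) ^ 2 ^ n = 1 := by rw [← map_pow, hn, map_one]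
  have h3 : orderOf (ρ v) ∣ 5 := orderOf_dvd_of_pow_eq_one h5
  have h4 : orderOf (ρ v) ∣ 2 ^ n := orderOf_dvd_of_pow_eq_one h2
  have h6 : orderOf (ρ v) = 1 := Nat.eq_one_of_dvd_coprimes (Nat.Coprime.pow_right n (by norm_num)) h3 h4
  exact orderOf_eq_one_iff.1 h6

end Cfsg.Agent.CpAutHNFive.PFive

end

-- merged: Cfsg.Agent.CpAutHNFive.TFive
section

/-!
# Elements of order 5 of `HN` commuting with `W0`

* `type_one` : type I : `C(x)` has one class of involutions, the Sylow 2-subgroups have one involution, and `Comps 5`;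
* `type_two` : type II : `C(x)` is solvable;
* `type_three` : type III : `C(x)` is solvable or `x` commutes with a conjugate of `ψ τ`; `8 ∤ |C(x) ∩ C(W0)|`.
-/

set_option autoImplicit false

namespace Cfsg.Agent.CpAutHNFive.TFive

open Cfsg.Agent.HN.Pres Cfsg.Agent.HN.P1408 Cfsg.Agent.HN.H0Basic
open Cfsg.Agent.HN.XWords (W0 W0_sq)
open Cfsg Cfsg.Agent
open Cfsg.Agent.KFacts.HN
open Cfsg.Agent.LThree (Comps)
open Cfsg.Agent.CpAutTh.RankOne (UInv)
open Cfsg.Agent.CpAutHN.PPFacts (isPGroup_ker)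
open Cfsg.Agent.CpAutHNFive Cfsg.Agent.CpAutHNFive.LFive Cfsg.Agent.CpAutHNFive.PFive
open Subgroup

/-- the group -/
abbrev G : Type := Cfsg.Spor.HN

instance instFinite : Finite G := finite_HN

/-- the involution `W0` of `C(x)` -/
noncomputable def sx (x : PP) : ↥(centralizer ({(x : G)} : Set G)) :=
  ⟨W0, mem_centralizer_singleton_iff.2 (mem_PP.1 x.2).symm⟩

theorem order_W0 : orderOf W0 = 2 := orderOf_eq_prime (by rw [pow_two]; exact W0_sq) W0_ne

theorem order_sx (x : PP) : orderOf (sx x) = 2 := by rw [← Subgroup.orderOf_coe]; exact order_W0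

/-- elements of `C(x) ∩ C(W0)` -/
noncomputable def toPP (x : PP) : ↥(centralizer ({sx x} : Set ↥(centralizer ({(x : G)} : Set G)))) →* PP where
  toFun u := ⟨((u : ↥(centralizer ({(x : G)} : Set G))) : G),
    mem_PP.2 (congrArg Subtype.val (mem_centralizer_singleton_iff.1 u.2))⟩
  map_one' := rfl
  map_mul' _ _ := rfl

theorem toPP_inj (x : PP) : Function.Injective (toPP x) := by
  intro u v h
  apply Subtype.ext
  apply Subtype.ext
  have h1 : ((toPP x u : PP) : G) = (toPP x v : PP) := by rw [h]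
  exact h1

theorem toPP_comm (x : PP) (u : ↥(centralizer ({sx x} : Set ↥(centralizer ({(x : G)} : Set G))))) :
    toPP x u * x = x * toPP x u :=
  Subtype.ext (mem_centralizer_singleton_iff.1 (u : ↥(centralizer ({(x : G)} : Set G))).2)

theorem exists_toPP {x v : PP} (h : v * x = x * v) : ∃ u, toPP x u = v := by
  have h1 : (v : G) * x = x * v := congrArg Subtype.val h
  refine ⟨⟨⟨(v : G), mem_centralizer_singleton_iff.2 h1⟩, mem_centralizer_singleton_iff.2 ?_⟩, rfl⟩
  exact Subtype.ext (mem_PP.1 v.2)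

/-- the map `C(x) ∩ C(W0) → Lq` -/
noncomputable def fC (x : PP) : ↥(centralizer ({sx x} : Set ↥(centralizer ({(x : G)} : Set G)))) →* Lq :=
  ρ.comp (toPP x)

theorem fC_comm (x : PP) (u : ↥(centralizer ({sx x} : Set ↥(centralizer ({(x : G)} : Set G))))) :
    fC x u * ρ x = ρ x * fC x u := by
  change ρ (toPP x u) * ρ x = ρ x * ρ (toPP x u)
  rw [← map_mul, toPP_comm, map_mul]

theorem ker_two (x : PP) : IsPGroup 2 ↥(fC x).ker := by
  intro u
  obtain ⟨k, hk⟩ := isPGroup_ker ⟨toPP x u, u.2⟩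
  refine ⟨k, Subtype.ext (toPP_inj x ?_)⟩
  have h1 : (toPP x u) ^ 2 ^ k = 1 := congrArg Subtype.val hk
  change toPP x (((u : ↥(centralizer ({sx x} : Set ↥(centralizer ({(x : G)} : Set G)))))) ^ 2 ^ k) = toPP x 1
  rw [map_pow, h1, map_one]

theorem mem_range {x : PP} (hx : orderOf x = 5) {z : Lq} : z ∈ (fC x).range ↔ z * ρ x = ρ x * z := by
  constructor
  · rintro ⟨u, rfl⟩
    exact fC_comm x u
  · intro h
    obtain ⟨g, rfl⟩ := ρ_surj z
    obtain ⟨q, hq, hqg⟩ := CpAutTh.RankOne.exists_comm Nat.prime_two Nat.prime_five (by norm_num) ρ isPGroup_ker hx h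
    obtain ⟨u, hu⟩ := exists_toPP hqg
    refine ⟨u, ?_⟩
    change ρ (toPP x u) = ρ g
    rw [hu, map_mul, MonoidHom.mem_ker.1 hq, one_mul]

/-! ### solvable images -/

theorem solvable_image {J : Subgroup Lq} {k : ℕ} (hk : k = 1 ∨ k = 3)
    (hJ : ∀ z ∈ J, z * (φA c5 * φB (c5 ^ k)) = φA c5 * φB (c5 ^ k) * z) : Group.IsSolvable ↥J := by
  have hn : LL.Normal := Subgroup.normal_of_index_eq_two index_LL
  have h1 : Group.IsSolvable ↥(LL.subgroupOf J) := by
    refine Group.isSolvable_of_comm fun a b => ?_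
    apply Subtype.ext
    apply Subtype.ext
    obtain ⟨i, j, h1⟩ := exists_pow (mem_subgroupOf.1 a.2) hk (hJ _ (a : ↥J).2)
    obtain ⟨i', j', h2⟩ := exists_pow (mem_subgroupOf.1 b.2) hk (hJ _ (b : ↥J).2)
    change ((a : ↥J) : Lq) * ((b : ↥J) : Lq) = ((b : ↥J) : Lq) * ((a : ↥J) : Lq)
    rw [h1, h2]
    have e : ∀ i j i' j' : ℕ, φA (c5 ^ i) * φB (c5 ^ j) * (φA (c5 ^ i') * φB (c5 ^ j')) =
        φA (c5 ^ (i + i')) * φB (c5 ^ (j + j')) := by
      intro i j i' j'
      rw [pow_add, pow_add, map_mul, map_mul]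
      have h := comm_AB (c5 ^ i') (c5 ^ j)
      calc φA (c5 ^ i) * φB (c5 ^ j) * (φA (c5 ^ i') * φB (c5 ^ j'))
          = φA (c5 ^ i) * (φB (c5 ^ j) * φA (c5 ^ i')) * φB (c5 ^ j') := by group
        _ = _ := by rw [← h]; group
    rw [e, e, add_comm i, add_comm j]
  have h2 : Group.IsSolvable (Lq ⧸ LL) := by
    have h3 : Nat.card (Lq ⧸ LL) = 2 := index_LL
    have : Fact (Nat.Prime 2) := ⟨Nat.prime_two⟩
    have hc : IsCyclic (Lq ⧸ LL) := isCyclic_of_prime_card h3
    exact Group.isSolvable_of_comm fun a b => (IsCyclic.commGroup (α := Lq ⧸ LL)).mul_comm a b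
  refine Group.isSolvable_of_ker_le_range (LL.subgroupOf J).subtype ((QuotientGroup.mk' LL).comp J.subtype) ?_
  intro z hz
  rw [range_subtype, mem_subgroupOf]
  exact (QuotientGroup.eq_one_iff _).1 hz

theorem solvable_cent {x : PP} {k : ℕ} (hk : k = 1 ∨ k = 3) (h : ρ x = φA c5 * φB (c5 ^ k)) :
    Group.IsSolvable ↥(centralizer ({sx x} : Set ↥(centralizer ({(x : G)} : Set G)))) := by
  have : Fact (Nat.Prime 2) := ⟨Nat.prime_two⟩
  have h1 : Group.IsSolvable ↥(fC x).range := solvable_image hk (by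
    rintro _ ⟨u, rfl⟩
    rw [← h]
    exact fC_comm x u)
  have h2 : Group.IsSolvable ↥(fC x).ker := by
    have := (ker_two x).isNilpotent
    infer_instance
  refine Group.isSolvable_of_ker_le_range (fC x).ker.subtype (fC x).rangeRestrict ?_
  rw [range_subtype, MonoidHom.ker_rangeRestrict]

/-! ### type I -/

theorem comm_elt {x : PP} {u : ↥(centralizer ({(x : G)} : Set G))} (h : u * sx x = sx x * u) :
    ∃ v : PP, (v : G) = u ∧ v * x = x * v :=
  ⟨⟨(u : G), mem_PP.2 (congrArg Subtype.val h)⟩, rfl, Subtype.ext (mem_centralizer_singleton_iff.1 u.2)⟩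

theorem sq_of_order {x : PP} {u : ↥(centralizer ({(x : G)} : Set G))} (hu : orderOf u = 2) :
    (u : G) * u = 1 ∧ (u : G) ≠ 1 := by
  constructor
  · have h : u ^ 2 = 1 := by rw [← hu, pow_orderOf_eq_one]
    rw [pow_two] at h
    exact congrArg Subtype.val h
  · intro h
    have h1 : u = 1 := Subtype.ext h
    rw [h1, orderOf_one] at hu
    norm_num at hu

theorem unique_one {x : PP} (h : ρ x = φA c5) :
    ∀ u : ↥(centralizer ({(x : G)} : Set G)), orderOf u = 2 → u * sx x = sx x * u → u = sx x := by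
  intro u hu hus
  obtain ⟨v, hvu, hvx⟩ := comm_elt hus
  obtain ⟨h1, h2⟩ := sq_of_order hu
  rcases only_one h (by rw [hvu]; exact h1) hvx with h3 | h3
  · exact (h2 (hvu.symm.trans h3)).elim
  · exact Subtype.ext (hvu.symm.trans h3)

theorem comps_image {x : PP} (hx : orderOf x = 5) (h : ρ x = φA c5) : Comps 5 ↥(fC x).range := by
  have hmem : ∀ z : Lq, z ∈ (fC x).range → ∃ (i : ℕ) (b : A5), z = φA (c5 ^ i) * φB b := by
    intro z hz
    have hc := (mem_range hx).1 hz
    rw [h] at hc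
    obtain ⟨a, b, rfl⟩ := mem_LL.1 (CpAutHN.LqFacts.mem_LL_of_comm c5_ne hc)
    obtain ⟨h4, -⟩ := coord_of_comm (a := a) (b := b) (a' := c5) (b' := 1) (by rw [map_one, mul_one]; exact hc)
    obtain ⟨i, rfl⟩ := cent_c5 h4
    exact ⟨i, b, rfl⟩
  have hB : φB.range ≤ (fC x).range := by
    rintro _ ⟨b, rfl⟩
    rw [mem_range hx, h]
    exact (comm_AB c5 b).symm
  have hN : (φB.range.subgroupOf (fC x).range).Normal := by
    refine ⟨fun n hn g => ?_⟩
    rw [mem_subgroupOf] at hn ⊢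
    obtain ⟨b, hb⟩ := hn
    obtain ⟨i, c, hc⟩ := hmem g g.2
    refine ⟨c * b * c⁻¹, ?_⟩
    change φB (c * b * c⁻¹) = (g : Lq) * (n : Lq) * (g : Lq)⁻¹
    rw [hc, ← hb, CpAutHN.LqFacts.conj_B]
  have hs : Group.IsSolvable (↥(fC x).range ⧸ φB.range.subgroupOf (fC x).range) := by
    refine Group.isSolvable_of_comm fun a b => ?_
    obtain ⟨a, rfl⟩ := QuotientGroup.mk_surjective a
    obtain ⟨b, rfl⟩ := QuotientGroup.mk_surjective b
    rw [← QuotientGroup.mk_mul, ← QuotientGroup.mk_mul, QuotientGroup.eq, mem_subgroupOf]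
    obtain ⟨i, c, hc⟩ := hmem a a.2
    obtain ⟨j, d, hd⟩ := hmem b b.2
    have e1 : ∀ (i j : ℕ) (c d : A5), φA (c5 ^ i) * φB c * (φA (c5 ^ j) * φB d) = φA (c5 ^ (i + j)) * φB (c * d) := by
      intro i j c d
      rw [pow_add, map_mul, map_mul]
      have h := comm_AB (c5 ^ j) c
      calc φA (c5 ^ i) * φB c * (φA (c5 ^ j) * φB d)
          = φA (c5 ^ i) * (φB c * φA (c5 ^ j)) * φB d := by group
        _ = _ := by rw [← h]; group
    refine ⟨(c * d)⁻¹ * (d * c), ?_⟩
    change _ = ((a : Lq) * (b : Lq))⁻¹ * ((b : Lq) * (a : Lq))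
    rw [hc, hd, e1, e1, add_comm j i, map_mul, map_inv]
    group
  have e : ↥(φB.range.subgroupOf (fC x).range) ≃* A5 :=
    (subgroupOfEquivOfLe hB).trans (MonoidHom.ofInjective φB_inj).symm
  have hI : InC 5 ↥(φB.range.subgroupOf (fC x).range) :=
    (CpQuot.Congr.inC_iff e 5).2 (CpAut.inC_alt (p := 5) (n := 5) (by norm_num) le_rfl (Or.inl rfl))
  exact LThree.Comps.of_normal Nat.prime_five _ hI hs

/-- **type I** -/
theorem type_one (h204 : ∀ (K : Type) [Group K] [Finite K] [IsSimpleGroup K], ¬ IsCyclic K →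
    ∃ E : Subgroup K, IsKleinFour E) {x : PP} (hx : orderOf x = 5) (h : ρ x = φA c5) :
    UInv ↥(centralizer ({(x : G)} : Set G)) ∧ Comps 5 ↥(centralizer ({(x : G)} : Set G)) := by
  refine ⟨(CpAutTh.RankOne.uInv_of_unique (order_sx x) (unique_one h)).1, ?_⟩
  refine CpAutTh.RankOne.comps_of_unique h204 Nat.prime_five (by norm_num) (order_sx x) (unique_one h) ?_
  refine (LThree.Red.comps_iff_of_surj (fC x).rangeRestrict (fC x).rangeRestrict_surjective ?_).1 (comps_image hx h)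
  rw [MonoidHom.ker_rangeRestrict]
  obtain ⟨n, hn⟩ := IsPGroup.iff_card.1 (ker_two x)
  rw [hn]
  exact Nat.Coprime.pow_left n (by norm_num)

/-! ### type II -/

/-- **type II** -/
theorem type_two (FT : ∀ (K : Type) [Group K] [Finite K], Odd (Nat.card K) → Group.IsSolvable K) {x : PP}
    (hx : orderOf x = 5) (h : ρ x = φA c5 * φB (c5 ^ 3)) : Group.IsSolvable ↥(centralizer ({(x : G)} : Set G)) := by
  have h5 : x ^ 5 = 1 := by rw [← hx, pow_orderOf_eq_one]
  refine solvable_of_iso FT (order_sx x) ?_ (solvable_cent (Or.inr rfl) h)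
  refine iso_of_extra (order_sx x) (RS.subgroupOf (centralizer ({(x : G)} : Set G))) ?_ ?_ ?_ ?_
  · intro u k hk hu
    obtain ⟨v, hvu, hvx⟩ := comm_elt hu
    have h1 : v ^ 2 ^ k = 1 := by
      apply Subtype.ext
      change (v : G) ^ 2 ^ k = 1
      rw [hvu]
      exact congrArg Subtype.val hk
    have h2 := ρ_two h hvx h1
    rw [mem_subgroupOf, ← hvu]
    exact ⟨v, h2, rfl⟩
  · intro u
    obtain ⟨k, hk⟩ := RS_isPGroup ⟨((u : ↥(centralizer ({(x : G)} : Set G))) : G), mem_subgroupOf.1 u.2⟩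
    refine ⟨k, Subtype.ext (Subtype.ext ?_)⟩
    have h0 := congrArg Subtype.val hk
    exact h0
  · intro a ha b hb
    rcases large.comm a (mem_subgroupOf.1 ha) b (mem_subgroupOf.1 hb) with h1 | h1
    · exact Or.inl (Subtype.ext h1)
    · exact Or.inr (Subtype.ext h1)
  · intro s hs hs2 hsz
    have hxc : ∀ c : G, c ∈ RS → c * W0 = W0 * c := fun c hc => mem_PP.1 (RS_le_PP hc)
    have hxW : (x : G) * W0 = W0 * x := mem_PP.1 x.2
    have hz2 : W0 * W0 = 1 := W0_sq
    obtain ⟨a, ha, b, hb, h1, h2, h3⟩ := CpAutHNFive.exists_not_comm (G := G)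
      (T := RS ⊓ centralizer ({(x : G)} : Set G)) (z := W0) (s := (s : G)) hz2 (fun t ht => hxc t ht.1)
      (fun a ha b hb => large.comm a ha.1 b hb.1) (by
        intro c hc hcT
        refine large.cent c hc.1 fun y hy => ?_
        refine comm_of_norm (R := RS) (z := W0) (x := (x : G)) order_W0 hxc hxW (congrArg Subtype.val h5)
          (fun r hr => conj_RS x.2 hr) large.comm hc.1 (mem_centralizer_singleton_iff.1 hc.2) ?_ hy
        intro d hd hdx
        exact hcT d ⟨hd, mem_centralizer_singleton_iff.2 hdx⟩) (card_two h5 h)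
      ⟨mem_subgroupOf.1 hs, s.2⟩ (sq_of_order hs2).2 (fun h => hsz (Subtype.ext h))
    refine ⟨⟨a, ha.2⟩, mem_subgroupOf.2 ha.1, ⟨b, hb.2⟩, mem_subgroupOf.2 hb.1, Subtype.ext h1, Subtype.ext h2, ?_⟩
    intro h4
    exact h3 (congrArg Subtype.val h4)

/-! ### type III -/

theorem card_image_dvd {J : Subgroup Lq} (hJ : ∀ z ∈ J, z * (φA c5 * φB c5) = φA c5 * φB c5 * z) :
    Nat.card ↥J ∣ 50 := by
  classical
  let C0 : Subgroup (A5 × A5) := (Subgroup.zpowers c5).prod (Subgroup.zpowers c5)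
  have hC0 : Nat.card ↥C0 = 25 := by
    rw [Nat.card_congr (Subgroup.prodEquiv _ _).toEquiv, Nat.card_prod, Nat.card_zpowers, c5_order]
  have hmap : Nat.card ↥(C0.map φ2) = 25 := by
    have hinj : Function.Injective φ2 := by
      rintro ⟨a, b⟩ ⟨a', b'⟩ h
      obtain ⟨h1, h2⟩ := φ2_inj h
      exact Prod.ext h1 h2
    rw [← hC0]
    exact (Nat.card_congr (C0.equivMapOfInjective φ2 hinj).toEquiv).symm
  have hle : J ⊓ LL ≤ C0.map φ2 := by
    rintro z ⟨hz, hzL⟩
    obtain ⟨i, j, rfl⟩ := exists_pow (k := 1) hzL (Or.inl rfl) (by rw [pow_one]; exact hJ z hz)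
    exact ⟨(c5 ^ i, c5 ^ j), Subgroup.mem_prod.2 ⟨Subgroup.pow_mem _ (Subgroup.mem_zpowers _) i,
      Subgroup.pow_mem _ (Subgroup.mem_zpowers _) j⟩, rfl⟩
  have h9 : Nat.card ↥(J ⊓ LL) ∣ 25 := by
    rw [← hmap]
    exact Subgroup.card_dvd_of_le hle
  have hn : LL.Normal := Subgroup.normal_of_index_eq_two index_LL
  have h2 : LL.relIndex J ∣ 2 := by
    rw [← index_LL]
    exact Subgroup.relIndex_dvd_index_of_normal LL J
  have h3 : Nat.card ↥(J ⊓ LL) * LL.relIndex J = Nat.card ↥J := by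
    rw [← Subgroup.relIndex_bot_left, ← Subgroup.relIndex_bot_left, inf_comm, ← Subgroup.inf_relIndex_right LL J]
    exact Subgroup.relIndex_mul_relIndex _ _ _ bot_le inf_le_right
  rw [← h3]
  exact Nat.mul_dvd_mul h9 h2

theorem card_three {x : PP} (h : ρ x = φA c5 * φB c5) :
    Nat.card ↥(centralizer ({sx x} : Set ↥(centralizer ({(x : G)} : Set G)))) ∣ 100 := by
  have h1 : Nat.card ↥(fC x).range ∣ 50 := card_image_dvd (by
    rintro _ ⟨u, rfl⟩
    rw [← h]
    exact fC_comm x u)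
  have h2 : Nat.card ↥(fC x).ker ∣ 2 := by
    have hle : (fC x).ker.map (toPP x) ≤ zpowers (⟨W0, W0_mem_PP⟩ : PP) := by
      rintro _ ⟨u, hu, rfl⟩
      rcases eq_of_ker (ρ_AB h) (fun m hm h => fix_AB hm h) (v := toPP x u) hu (toPP_comm x u) with h3 | h3
      · have : toPP x u = 1 := Subtype.ext h3
        rw [this]
        exact one_mem _
      · have : toPP x u = ⟨W0, W0_mem_PP⟩ := Subtype.ext h3
        rw [this]
        exact mem_zpowers _
    have h4 := Subgroup.card_dvd_of_le hle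
    rw [Nat.card_zpowers, ← Subgroup.orderOf_coe] at h4
    change _ ∣ orderOf W0 at h4
    rw [order_W0] at h4
    rwa [Nat.card_congr ((fC x).ker.equivMapOfInjective (toPP x) (toPP_inj x)).toEquiv]
  have h3 : Nat.card ↥(centralizer ({sx x} : Set ↥(centralizer ({(x : G)} : Set G)))) =
      Nat.card ↥(fC x).ker * Nat.card ↥(fC x).range := by
    rw [← (fC x).ker.card_mul_index, Subgroup.index_ker]
  rw [h3]
  exact (Nat.mul_dvd_mul h2 h1).trans (by norm_num)

/-- **type III** -/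
theorem type_three (FT : ∀ (K : Type) [Group K] [Finite K], Odd (Nat.card K) → Group.IsSolvable K) {x : PP}
    (h : ρ x = φA c5 * φB c5) : Group.IsSolvable ↥(centralizer ({(x : G)} : Set G)) ∨
      ∃ v : G, IsConj (Cfsg.Agent.HN.NormalH.ψ τ) v ∧ v * x = x * v := by
  by_cases hv : ∃ v : G, IsConj (Cfsg.Agent.HN.NormalH.ψ τ) v ∧ v * x = x * v
  · exact Or.inr hv
  left
  refine solvable_of_iso FT (order_sx x) ?_ (solvable_cent (k := 1) (Or.inl rfl) (by rw [pow_one]; exact h))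
  intro g hg
  have hu2 : orderOf (g * sx x * g⁻¹) = 2 := by
    rw [← order_sx x]
    exact MulEquiv.orderOf_eq (MulAut.conj g) (sx x)
  obtain ⟨v, hvu, hvx⟩ := comm_elt hg
  obtain ⟨h1, h2⟩ := sq_of_order hu2
  by_contra hne
  have hvW : (v : G) ≠ W0 := by
    intro h3
    exact hne (Subtype.ext (hvu.symm.trans h3))
  have hvx' : (v : G) * x = x * v := congrArg Subtype.val hvx
  rcases outer_three h (by rw [hvu]; exact h1) hvx (by rw [hvu]; exact h2) hvW with h3 | h3
  · exact hv ⟨(v : G), h3, hvx'⟩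
  · refine hv ⟨(v : G) * W0, h3, ?_⟩
    have hxW : (x : G) * W0 = W0 * x := mem_PP.1 x.2
    rw [mul_assoc, ← hxW, ← mul_assoc, hvx', mul_assoc]

end Cfsg.Agent.CpAutHNFive.TFive

end

-- merged: Cfsg.Agent.CpAutHNFive.TauFive
section

/-!
# Elements of order 5 of `HN` commuting with `ψ τ` (helper89)

* `equiv_C` : `C(ψ y) ∩ C(ψ τ) ≅ C_{H0}(y)`;
* `solvable_three` : `C(ψ w3)` is solvable;
* `cases_PP` : the centraliser of an element of order 5 commuting with `W0`;
* `good_one` : the centraliser of `ψ w1`;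
* `main_cases` : every element of order 5 of `HN` commuting with an involution.
-/

set_option autoImplicit false

namespace Cfsg.Agent.CpAutHNFive.TauFive

open Cfsg.Agent.HN.Pres Cfsg.Agent.HN.H0Basic
open Cfsg.Agent.HN.P1408 hiding ψ
open Cfsg.Agent.HN.XWords (W0 W0_sq)
open Cfsg.Agent.HN.NormalH (ψ)
open Cfsg Cfsg.Agent
open Cfsg.Agent.KFacts.HN
open Cfsg.Agent.LThree (Comps)
open Cfsg.Agent.CpAutTh.RankOne (UInv)
open Cfsg.Agent.CpAutHNFive Cfsg.Agent.CpAutHNFive.LFive Cfsg.Agent.CpAutHNFive.PFive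
open Cfsg.Agent.CpAutHNFive.TFive Cfsg.Agent.CpAutHNFive.HTab Cfsg.Agent.CpAutHNFive.HFacts
open Subgroup

universe u v

/-- the two good cases -/
def Good (C : Type u) [Group C] : Prop := (UInv C ∧ Comps 5 C) ∨ Group.IsSolvable C

theorem Good.comps {C : Type u} [Group C] (h : Good C) : Comps 5 C := by
  rcases h with h | h
  · exact h.2
  · exact Comps.of_solvable h

theorem Good.congr {C : Type u} {D : Type v} [Group C] [Group D] (e : C ≃* D) (h : Good C) : Good D := by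
  rcases h with ⟨h1, h2⟩ | h
  · refine Or.inl ⟨?_, h2.congr e⟩
    intro a b ha hb hab
    have h3 := h1 (e.symm a) (e.symm b) (by rw [MulEquiv.orderOf_eq, ha]) (by rw [MulEquiv.orderOf_eq, hb]) (by
      rw [← map_mul, ← map_mul, hab])
    exact e.symm.injective h3
  · right
    exact Group.isSolvable_of_surjective (f := e.toMonoidHom) e.surjective

/-! ### centralisers of conjugates and powers -/

section Conj

variable {X : Type*} [Group X]

theorem centralizer_pow {x : X} {m : ℕ} (hx : orderOf x = 5) (h1 : 1 ≤ m) (h5 : m < 5) :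
    centralizer ({x ^ m} : Set X) = centralizer ({x} : Set X) := by
  ext z
  rw [mem_centralizer_singleton_iff, mem_centralizer_singleton_iff]
  constructor
  · intro h
    have hx5 : x ^ 5 = 1 := by rw [← hx, pow_orderOf_eq_one]
    obtain ⟨k, hk⟩ : ∃ k : ℕ, (x ^ m) ^ k = x := by
      have key : ∀ n q : ℕ, m * n = 5 * q + 1 → (x ^ m) ^ n = x := by
        intro n q hq
        rw [← pow_mul, hq, pow_add, pow_mul, hx5, one_pow, one_mul, pow_one]
      interval_cases m
      · exact ⟨1, key 1 0 (by norm_num)⟩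
      · exact ⟨3, key 3 1 (by norm_num)⟩
      · exact ⟨2, key 2 1 (by norm_num)⟩
      · exact ⟨4, key 4 3 (by norm_num)⟩
    have h2 : Commute z (x ^ m) := h
    rw [← hk]
    exact (h2.pow_right k).eq
  · intro h
    exact ((show Commute z x from h).pow_right m).eq

theorem map_centralizer (g x : X) :
    (centralizer ({x} : Set X)).map (MulAut.conj g).toMonoidHom = centralizer ({g * x * g⁻¹} : Set X) := by
  ext y
  rw [mem_centralizer_singleton_iff, mem_map]
  constructor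
  · rintro ⟨z, hz, rfl⟩
    rw [mem_centralizer_singleton_iff] at hz
    change g * z * g⁻¹ * (g * x * g⁻¹) = g * x * g⁻¹ * (g * z * g⁻¹)
    calc g * z * g⁻¹ * (g * x * g⁻¹) = g * (z * x) * g⁻¹ := by group
      _ = g * (x * z) * g⁻¹ := by rw [hz]
      _ = _ := by group
  · intro hy
    refine ⟨g⁻¹ * y * g, ?_, ?_⟩
    · rw [mem_centralizer_singleton_iff]
      calc g⁻¹ * y * g * x = g⁻¹ * (y * (g * x * g⁻¹)) * g := by group
        _ = g⁻¹ * (g * x * g⁻¹ * y) * g := by rw [hy]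
        _ = x * (g⁻¹ * y * g) := by group
    · change g * (g⁻¹ * y * g) * g⁻¹ = y
      group

/-- centralisers of conjugate elements -/
noncomputable def cequiv (g x : X) : ↥(centralizer ({x} : Set X)) ≃* ↥(centralizer ({g * x * g⁻¹} : Set X)) :=
  ((centralizer ({x} : Set X)).equivMapOfInjective _ (MulAut.conj g).injective).trans
    (MulEquiv.subgroupCongr (map_centralizer g x))

/-- `C(x) ≅ C(g x ^ m g⁻¹)` -/
theorem cequiv_pow {x y : X} (hx : orderOf x = 5) {g : X} {m : ℕ} (h1 : 1 ≤ m) (h5 : m < 5) (h : g * x ^ m * g⁻¹ = y) :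
    Nonempty (↥(centralizer ({x} : Set X)) ≃* ↥(centralizer ({y} : Set X))) := by
  rw [← h, ← centralizer_pow hx h1 h5]
  exact ⟨cequiv g (x ^ m)⟩

end Conj

/-! ### elements commuting with `W0` -/

theorem card_pair (x : PP) : Nat.card ↥(centralizer ({sx x} : Set ↥(centralizer ({(x : G)} : Set G)))) =
    Nat.card ↥(centralizer ({(x : G)} : Set G) ⊓ centralizer ({W0} : Set G) : Subgroup G) := by
  refine Nat.card_congr
    { toFun := fun u => ⟨((u : ↥(centralizer ({(x : G)} : Set G))) : G),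
        (u : ↥(centralizer ({(x : G)} : Set G))).2, (toPP x u).2⟩
      invFun := fun v => ⟨⟨(v : G), v.2.1⟩, mem_centralizer_singleton_iff.2
        (Subtype.ext (mem_centralizer_singleton_iff.1 v.2.2))⟩
      left_inv := fun _ => rfl
      right_inv := fun _ => rfl }

theorem cases_PP (FT : ∀ (K : Type) [Group K] [Finite K], Odd (Nat.card K) → Group.IsSolvable K)
    (h204 : ∀ (K : Type) [Group K] [Finite K] [IsSimpleGroup K], ¬ IsCyclic K → ∃ E : Subgroup K, IsKleinFour E)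
    {x : G} (hx : orderOf x = 5) (hxW : x * W0 = W0 * x) : Good ↥(centralizer ({x} : Set G)) ∨
      ((∃ v : G, IsConj (ψ τ) v ∧ v * x = x * v) ∧
        Nat.card ↥(centralizer ({x} : Set G) ⊓ centralizer ({W0} : Set G) : Subgroup G) ∣ 100) := by
  have hxP : orderOf (⟨x, mem_PP.2 hxW⟩ : PP) = 5 := by rw [← Subgroup.orderOf_coe]; exact hx
  obtain ⟨g, m, hm1, hm5, h⟩ := conj_std hxP
  let y : PP := g * ⟨x, mem_PP.2 hxW⟩ ^ m * g⁻¹
  have hy : (y : G) = (g : G) * x ^ m * (g : G)⁻¹ := rfl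
  have hy5 : orderOf y = 5 := by
    have h1 : orderOf ((⟨x, mem_PP.2 hxW⟩ : PP) ^ m) = 5 := by
      rw [orderOf_pow, hxP]
      interval_cases m <;> rfl
    rw [← h1]
    exact MulEquiv.orderOf_eq (MulAut.conj g) _
  obtain ⟨e⟩ := cequiv_pow hx hm1 hm5 hy.symm
  rcases h with h | h | h
  · exact Or.inl (Good.congr e.symm (Or.inl (type_one h204 hy5 h)))
  · rcases type_three FT h with h1 | ⟨v, hv, hvy⟩
    · exact Or.inl (Good.congr e.symm (Or.inr h1))
    · right
      refine ⟨⟨(g : G)⁻¹ * v * g, hv.trans (isConj_iff.2 ⟨(g : G)⁻¹, by rw [inv_inv]⟩), ?_⟩, ?_⟩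
      · have h2 : (g : G)⁻¹ * v * g ∈ centralizer ({x ^ m} : Set G) := by
          rw [mem_centralizer_singleton_iff]
          have h3 : v * ((g : G) * x ^ m * (g : G)⁻¹) = (g : G) * x ^ m * (g : G)⁻¹ * v := hvy
          calc (g : G)⁻¹ * v * g * x ^ m = (g : G)⁻¹ * (v * ((g : G) * x ^ m * (g : G)⁻¹)) * g := by group
            _ = (g : G)⁻¹ * ((g : G) * x ^ m * (g : G)⁻¹ * v) * g := by rw [h3]
            _ = _ := by group
        rw [centralizer_pow hx hm1 hm5] at h2
        exact mem_centralizer_singleton_iff.1 h2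
      · have h2 := card_three (x := y) h
        rw [card_pair] at h2
        have h3 : (centralizer ({x} : Set G) ⊓ centralizer ({W0} : Set G)).map (MulAut.conj (g : G)).toMonoidHom =
            centralizer ({(y : G)} : Set G) ⊓ centralizer ({W0} : Set G) := by
          have hgW : (g : G) * W0 * (g : G)⁻¹ = W0 := by rw [mem_PP.1 g.2, mul_inv_cancel_right]
          rw [Subgroup.map_inf _ _ _ (MulAut.conj (g : G)).injective, ← centralizer_pow hx hm1 hm5, map_centralizer,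
            map_centralizer, hgW, hy]
        rw [← h3] at h2
        rwa [← Nat.card_congr ((centralizer ({x} : Set G) ⊓ centralizer ({W0} : Set G)).equivMapOfInjective
          (MulAut.conj (g : G)).toMonoidHom (MulAut.conj (g : G)).injective).toEquiv] at h2
  · exact Or.inl (Good.congr e.symm (Or.inr (type_two FT hy5 h)))

/-! ### elements commuting with `ψ τ` -/

/-- `ψ τ` as an element of `C(ψ y)` -/
noncomputable def tz (y : H0) : ↥(centralizer ({ψ y} : Set G)) :=
  ⟨ψ τ, mem_centralizer_singleton_iff.2 (by rw [← map_mul, ← map_mul, emb.comm y])⟩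

theorem order_tz (y : H0) : orderOf (tz y) = 2 := by
  rw [← Subgroup.orderOf_coe]
  change orderOf (ψ τ) = 2
  rw [orderOf_injective _ emb.inj, order_τ]

theorem exists_ψ {y : H0} {u : ↥(centralizer ({ψ y} : Set G))} (h : u * tz y = tz y * u) :
    ∃ v : H0, ψ v = u ∧ v * y = y * v := by
  obtain ⟨v, hv⟩ := emb.cent (u : G) (congrArg Subtype.val h)
  refine ⟨v, hv, emb.inj ?_⟩
  rw [map_mul, map_mul, hv]
  exact mem_centralizer_singleton_iff.1 u.2

/-- `C_{H0}(y) → C(ψ y) ∩ C(ψ τ)` -/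
noncomputable def fH (y : H0) :
    ↥(centralizer ({y} : Set H0)) →* ↥(centralizer ({tz y} : Set ↥(centralizer ({ψ y} : Set G)))) where
  toFun v := ⟨⟨ψ v, mem_centralizer_singleton_iff.2 (by
    rw [← map_mul, ← map_mul, mem_centralizer_singleton_iff.1 v.2])⟩, mem_centralizer_singleton_iff.2 (Subtype.ext (by
      change ψ v * ψ τ = ψ τ * ψ v
      rw [← map_mul, ← map_mul, τ_comm]))⟩
  map_one' := Subtype.ext (Subtype.ext (map_one ψ))
  map_mul' a b := Subtype.ext (Subtype.ext (map_mul ψ (a : H0) (b : H0)))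

theorem fH_coe (y : H0) (v : ↥(centralizer ({y} : Set H0))) :
    (((fH y v : ↥(centralizer ({tz y} : Set ↥(centralizer ({ψ y} : Set G))))) : ↥(centralizer ({ψ y} : Set G))) : G) =
      ψ v := rfl

theorem fH_bij (y : H0) : Function.Bijective (fH y) := by
  constructor
  · intro a b h
    apply Subtype.ext
    apply emb.inj
    rw [← fH_coe y a, ← fH_coe y b, h]
  · intro u
    obtain ⟨v, hv, hvy⟩ := exists_ψ (mem_centralizer_singleton_iff.1 u.2)
    refine ⟨⟨v, mem_centralizer_singleton_iff.2 hvy⟩, ?_⟩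
    apply Subtype.ext
    apply Subtype.ext
    exact hv

/-- **`C_{H0}(y) ≅ C(ψ y) ∩ C(ψ τ)`** -/
noncomputable def equiv_C (y : H0) :
    ↥(centralizer ({y} : Set H0)) ≃* ↥(centralizer ({tz y} : Set ↥(centralizer ({ψ y} : Set G)))) :=
  MulEquiv.ofBijective (fH y) (fH_bij y)

/-! ### `w3` -/

theorem solvable_three (FT : ∀ (K : Type) [Group K] [Finite K], Odd (Nat.card K) → Group.IsSolvable K) :
    Group.IsSolvable ↥(centralizer ({ψ (hw w3)} : Set G)) := by
  have := finite_H0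
  have h100 : Group.IsSolvable ↥(centralizer ({hw w3} : Set H0)) :=
    Cfsg.Agent.S0144.result 2 5 2 2 Nat.prime_two Nat.prime_five (by rw [HFacts.card_three]; norm_num)
  refine solvable_of_iso FT (order_tz (hw w3)) ?_ (Group.isSolvable_of_surjective (f := (equiv_C (hw w3)).toMonoidHom) (equiv_C (hw w3)).surjective)
  intro g hg
  obtain ⟨v, hv, hvy⟩ := exists_ψ hg
  have h2 : orderOf v = 2 := by
    rw [← orderOf_injective ψ emb.inj, hv, Subgroup.orderOf_coe, ← order_tz (hw w3)]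
    exact MulEquiv.orderOf_eq (MulAut.conj g) _
  rcases inv_three hvy h2 with rfl | h
  · exact Subtype.ext hv.symm
  · exfalso
    apply hd
    have h3 : IsConj (ψ τ) (ψ v) := by
      rw [hv]
      exact isConj_iff.2 ⟨(g : G), rfl⟩
    exact h3.trans (ψ.map_isConj h).symm

/-! ### `w1` -/

theorem good_one (FT : ∀ (K : Type) [Group K] [Finite K], Odd (Nat.card K) → Group.IsSolvable K)
    (h204 : ∀ (K : Type) [Group K] [Finite K] [IsSimpleGroup K], ¬ IsCyclic K → ∃ E : Subgroup K, IsKleinFour E) :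
    Good ↥(centralizer ({ψ (hw w1)} : Set G)) := by
  have := finite_H0
  have hW : W0 = ψ (Cfsg.Agent.HN.Syl.a * τ) := Cfsg.Agent.HN.XWords.W0_eq
  have hx : orderOf (ψ (hw w1)) = 5 := by rw [orderOf_injective _ emb.inj, order_w1]
  have hc : Cfsg.Agent.HN.Syl.a * τ * hw w1 = hw w1 * (Cfsg.Agent.HN.Syl.a * τ) := by
    rw [mul_assoc, ← τ_comm, ← mul_assoc, a_comm, mul_assoc]
  rcases cases_PP FT h204 hx (by rw [hW, ← map_mul, ← map_mul, hc]) with h | ⟨-, h⟩
  · exact h
  · exfalso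
    have h1 : (zpowers τ ⊔ zpowers (hw wq)).map ψ ≤
        centralizer ({ψ (hw w1)} : Set G) ⊓ centralizer ({W0} : Set G) := by
      rw [map_le_iff_le_comap, sup_le_iff, zpowers_le, zpowers_le]
      constructor
      · refine ⟨mem_centralizer_singleton_iff.2 ?_, mem_centralizer_singleton_iff.2 ?_⟩
        · rw [← map_mul, ← map_mul, τ_comm]
        · rw [hW, ← map_mul, ← map_mul, ← τ_comm (Cfsg.Agent.HN.Syl.a * τ)]
      · refine ⟨mem_centralizer_singleton_iff.2 ?_, mem_centralizer_singleton_iff.2 ?_⟩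
        · rw [← map_mul, ← map_mul, q_comm]
        · have h2 : hw wq * (Cfsg.Agent.HN.Syl.a * τ) = Cfsg.Agent.HN.Syl.a * τ * hw wq := by
            rw [← mul_assoc, q_comm_a, mul_assoc, τ_comm, ← mul_assoc]
          rw [hW, ← map_mul, ← map_mul, h2]
    have h8 : 8 ∣ Nat.card ↥(zpowers τ ⊔ zpowers (hw wq) : Subgroup H0) := by
      have ht : τ ∈ zpowers τ ⊔ zpowers (hw wq) := mem_sup_left (mem_zpowers _)
      have hq : hw wq ∈ zpowers τ ⊔ zpowers (hw wq) := mem_sup_right (mem_zpowers _)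
      have h3 := mul_order_dvd (C := ↥(zpowers τ ⊔ zpowers (hw wq) : Subgroup H0)) (a := ⟨τ, ht⟩) (b := ⟨hw wq, hq⟩)
        (Subtype.ext (τ_comm _).symm)
        (inf_eq_bot_of_prime Nat.prime_two (by rw [← Subgroup.orderOf_coe]; exact order_τ) (by
          intro h
          apply τ_not_mem
          obtain ⟨k, hk⟩ := mem_zpowers_iff.1 h
          exact mem_zpowers_iff.2 ⟨k, congrArg Subtype.val hk⟩))
      rw [← Subgroup.orderOf_coe, ← Subgroup.orderOf_coe] at h3
      change orderOf τ * orderOf (hw wq) ∣ _ at h3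
      rw [order_τ, order_q] at h3
      exact h3
    have h9 := (card_dvd_of_le h1).trans h
    rw [← Nat.card_congr ((zpowers τ ⊔ zpowers (hw wq)).equivMapOfInjective ψ emb.inj).toEquiv] at h9
    have h10 := h8.trans h9
    norm_num at h10

/-- **Elements of order 5 commuting with an involution** -/
theorem main_cases (FT : ∀ (K : Type) [Group K] [Finite K], Odd (Nat.card K) → Group.IsSolvable K)
    (h204 : ∀ (K : Type) [Group K] [Finite K] [IsSimpleGroup K], ¬ IsCyclic K → ∃ E : Subgroup K, IsKleinFour E)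
    {x u : G} (hx : orderOf x = 5) (hu : orderOf u = 2) (hux : u * x = x * u) :
    Good ↥(centralizer ({x} : Set G)) ∨
      Nonempty (↥(centralizer ({x} : Set G)) ≃* ↥(centralizer ({ψ (hw w2)} : Set G))) := by
  -- conjugates of `ψ τ`
  have key : ∀ v : G, IsConj (ψ τ) v → v * x = x * v → Good ↥(centralizer ({x} : Set G)) ∨
      Nonempty (↥(centralizer ({x} : Set G)) ≃* ↥(centralizer ({ψ (hw w2)} : Set G))) := by
    intro v hv hvx
    obtain ⟨c, hc⟩ := isConj_iff.1 hv.symm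
    have h1 : c * x * c⁻¹ * ψ τ = ψ τ * (c * x * c⁻¹) := by
      rw [← hc]
      calc c * x * c⁻¹ * (c * v * c⁻¹) = c * (x * v) * c⁻¹ := by group
        _ = c * (v * x) * c⁻¹ := by rw [hvx]
        _ = _ := by group
    obtain ⟨y, hy⟩ := emb.cent _ h1
    have hy5 : orderOf y = 5 := by
      rw [← orderOf_injective ψ emb.inj, hy, ← hx]
      exact MulEquiv.orderOf_eq (MulAut.conj c) x
    obtain ⟨g, m, hm1, hm5, w, hw', hg⟩ := five_conj hy5
    have hw5 : orderOf (ψ (hw w)) = 5 := by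
      rw [orderOf_injective _ emb.inj]
      rcases hw' with rfl | rfl | rfl
      · exact order_w1
      · exact order_w2
      · exact order_w3
    have h2 : (ψ g * c)⁻¹ * ψ (hw w) ^ m * ((ψ g * c)⁻¹)⁻¹ = x := by
      rw [← map_pow, ← hg, map_mul, map_mul, map_inv, hy]
      group
    obtain ⟨e⟩ := cequiv_pow hw5 hm1 hm5 h2
    rcases hw' with rfl | rfl | rfl
    · exact Or.inl ((good_one FT h204).congr e)
    · exact Or.inr ⟨e.symm⟩
    · exact Or.inl (Good.congr e (Or.inr (solvable_three FT)))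
  rcases Classes.inv_class hu with h | h
  · exact key u h.symm hux
  · obtain ⟨c, hc⟩ := isConj_iff.1 h
    have h1 : c * x * c⁻¹ * W0 = W0 * (c * x * c⁻¹) := by
      rw [← hc]
      calc c * x * c⁻¹ * (c * u * c⁻¹) = c * (x * u) * c⁻¹ := by group
        _ = c * (u * x) * c⁻¹ := by rw [hux]
        _ = _ := by group
    have h5 : orderOf (c * x * c⁻¹) = 5 := by
      rw [← hx]
      exact MulEquiv.orderOf_eq (MulAut.conj c) x
    rcases cases_PP FT h204 h5 h1 with h2 | ⟨⟨v, hv, hvx⟩, -⟩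
    · exact Or.inl (h2.congr (cequiv c x).symm)
    · refine key (c⁻¹ * v * c) (hv.trans (isConj_iff.2 ⟨c⁻¹, by rw [inv_inv]⟩)) ?_
      calc c⁻¹ * v * c * x = c⁻¹ * (v * (c * x * c⁻¹)) * c := by group
        _ = c⁻¹ * (c * x * c⁻¹ * v) * c := by rw [hvx]
        _ = _ := by group

end Cfsg.Agent.CpAutHNFive.TauFive

end

-- merged: Cfsg.Agent.CpAutHNFive.QDSyl
section

/-!
# Groups with a quasi-dihedral Sylow 2-subgroup of order 16 (helper89)

* `exists_mem` : two commuting involutions `a ≠ b`: one of `a`, `b`, `a b` is conjugate to `g ^ 4`;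
* `rank_two` : an involution commuting with two commuting involutions `a ≠ b` is `a`, `b` or `a b`;
* `Dat` : the situation of `C(x)`, `x` of the class 5A of `HN`; `Dat.le_of_even`, `Dat.not_index_two`, `Dat.mem_of_le`.
-/

set_option autoImplicit false

namespace Cfsg.Agent.CpAutHNFive.QD

open Subgroup Cfsg
open scoped Pointwise

universe u

/-! ### the group of order 16 -/

namespace QDat

variable {G : Type u} [Group G] {g h : G}

theorem pow_sq (D : QDat g h) {n : ℕ} (h2 : g ^ n * g ^ n = 1) (h1 : g ^ n ≠ 1) : g ^ n = g ^ 4 := by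
  rw [← pow_add] at h2
  have h3 := orderOf_dvd_of_pow_eq_one h2
  rw [D.hg] at h3
  have h4 : n % 8 = 0 ∨ n % 8 = 4 := by omega
  have h5 : g ^ n = g ^ (n % 8) := by
    conv_lhs => rw [← Nat.div_add_mod n 8, pow_add, pow_mul, D.g8, one_pow, one_mul]
  rcases h4 with h4 | h4
  · rw [h5, h4, pow_zero] at h1
    exact (h1 rfl).elim
  · rw [h5, h4]

/-- commuting involutions -/
theorem four_mem (D : QDat g h) {a b : G} (ha : a ∈ _root_.Subgroup.closure ({g, h} : Set G)) (hb : b ∈ closure ({g, h} : Set G))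
    (ha2 : orderOf a = 2) (hb2 : orderOf b = 2) (hab : a * b = b * a) (hne : a ≠ b) :
    g ^ 4 = a ∨ g ^ 4 = b ∨ g ^ 4 = a * b := by
  have haa : a * a = 1 := by rw [← pow_two, ← ha2, pow_orderOf_eq_one]
  have hbb : b * b = 1 := by rw [← pow_two, ← hb2, pow_orderOf_eq_one]
  have ha1 : a ≠ 1 := by
    rintro rfl
    rw [orderOf_one] at ha2
    norm_num at ha2
  have hb1 : b ≠ 1 := by
    rintro rfl
    rw [orderOf_one] at hb2
    norm_num at hb2
  obtain ⟨i, -, hi | hi⟩ := D.mem_form' ha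
  · left
    rw [hi] at haa ha1 ⊢
    exact (D.pow_sq haa ha1).symm
  obtain ⟨j, -, hj | hj⟩ := D.mem_form' hb
  · right; left
    rw [hj] at hbb hb1 ⊢
    exact (D.pow_sq hbb hb1).symm
  · right; right
    have h1 : a * b = g ^ (i + 3 * j) := by
      rw [hi, hj]
      calc g ^ i * h * (g ^ j * h) = g ^ i * (h * g ^ j) * h := by group
        _ = g ^ i * g ^ (3 * j) * (h * h) := by rw [D.comm]; group
        _ = g ^ (i + 3 * j) := by rw [D.hh2, mul_one, pow_add]
    have h2 : a * b * (a * b) = 1 := by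
      calc a * b * (a * b) = a * (b * a) * b := by group
        _ = (a * a) * (b * b) := by rw [← hab]; group
        _ = 1 := by rw [haa, hbb, one_mul]
    have h3 : a * b ≠ 1 := by
      intro h3
      apply hne
      rw [eq_inv_of_mul_eq_one_left h3, inv_eq_of_mul_eq_one_left hbb]
    rw [h1] at h2 h3 ⊢
    exact (D.pow_sq h2 h3).symm

/-- a non-trivial normal subgroup of the group contains `g ^ 4` -/
theorem four_mem_of_normal (D : QDat g h) {N : Subgroup G} (hN : ∀ x ∈ _root_.Subgroup.closure ({g, h} : Set G), ∀ n ∈ N, x * n * x⁻¹ ∈ N)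
    {t : G} (ht : t ∈ closure ({g, h} : Set G)) (htN : t ∈ N) (ht1 : t ≠ 1) : g ^ 4 ∈ N := by
  obtain ⟨i, hi8, hi | hi⟩ := D.mem_form' ht
  · -- a power of `g`
    rw [hi] at htN ht1
    have h0 : i ≠ 0 := by
      rintro rfl
      exact ht1 (pow_zero _)
    have key : ∀ m n : ℕ, i * m = 4 + 8 * n → g ^ 4 ∈ N := by
      intro m n hmn
      have h1 := N.pow_mem htN m
      rwa [← pow_mul, hmn, pow_add, pow_mul, D.g8, one_pow, mul_one] at h1
    interval_cases i
    · exact (h0 rfl).elim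
    · exact key 4 0 (by norm_num)
    · exact key 2 0 (by norm_num)
    · exact key 4 1 (by norm_num)
    · exact key 1 0 (by norm_num)
    · exact key 4 2 (by norm_num)
    · exact key 2 1 (by norm_num)
    · exact key 4 3 (by norm_num)
  · have h1 : g * t * g⁻¹ * t⁻¹ ∈ N := N.mul_mem (hN g (gmem g h) t htN) (N.inv_mem htN)
    have h2 : g * t * g⁻¹ * t⁻¹ = (g ^ 2)⁻¹ := by
      have h3 : h * g⁻¹ * h⁻¹ = (g ^ 3)⁻¹ := by rw [← D.hgh]; group
      rw [hi]
      calc g * (g ^ i * h) * g⁻¹ * (g ^ i * h)⁻¹ = g * g ^ i * (h * g⁻¹ * h⁻¹) * (g ^ i)⁻¹ := by group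
        _ = g * (g ^ i * (g ^ 3)⁻¹ * (g ^ i)⁻¹) := by rw [h3]; group
        _ = g * (g ^ 3)⁻¹ := by
          have h4 : g ^ i * (g ^ 3)⁻¹ * (g ^ i)⁻¹ = (g ^ 3)⁻¹ := by
            have h5 : Commute (g ^ i) ((g ^ 3)⁻¹) := ((Commute.refl g).pow_pow i 3).inv_right
            rw [h5.eq]; group
          rw [h4]
        _ = (g ^ 2)⁻¹ := by rw [pow_succ, pow_two]; group
    rw [h2] at h1
    have h3 := N.inv_mem h1
    rw [inv_inv] at h3
    have h4 := N.mul_mem h3 h3
    rwa [← pow_add] at h4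

/-- the group is a Sylow 2-subgroup if `32` does not divide the order -/
theorem exists_syl [Finite G] (D : QDat g h) (hc : ¬ 32 ∣ Nat.card G) :
    ∃ P : Sylow 2 G, (P : Subgroup G) = _root_.Subgroup.closure ({g, h} : Set G) :=
  D.exists_sylow fun h1 => hc (h1.trans (card_subgroup_dvd_card _))

end QDat

/-! ### 2-subgroups generated by commuting involutions -/

section Elem

variable {G : Type u} [Group G]

theorem isPGroup_closure {S : Set G} (hS : ∀ x ∈ S, x * x = 1) (hc : ∀ x ∈ S, ∀ y ∈ S, x * y = y * x) :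
    IsPGroup 2 ↥(closure S) := by
  have hcomm : ∀ x ∈ _root_.Subgroup.closure S, ∀ y ∈ closure S, x * y = y * x := by
    have h1 : closure S ≤ centralizer (S : Set G) := by
      rw [closure_le]
      intro x hx
      exact mem_centralizer_iff.2 fun y hy => hc y hy x hx
    intro x hx y hy
    have h2 : closure S ≤ centralizer ({x} : Set G) := by
      rw [closure_le]
      intro s hs
      exact mem_centralizer_singleton_iff.2 (mem_centralizer_iff.1 (h1 hx) s hs)
    exact (mem_centralizer_singleton_iff.1 (h2 hy)).symm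
  intro x
  refine ⟨1, ?_⟩
  rw [pow_one, pow_two]
  apply Subtype.ext
  change (x : G) * x = 1
  have key : ∀ x ∈ closure S, x * x = 1 := by
    intro x hx
    induction hx using closure_induction with
    | mem y hy => exact hS y hy
    | one => exact one_mul 1
    | mul a b ha' hb' ha hb =>
      calc a * b * (a * b) = a * (b * a) * b := by group
        _ = (a * a) * (b * b) := by rw [hcomm b hb' a ha']; group
        _ = 1 := by rw [ha, hb, one_mul]
    | inv a _ ha => rw [← mul_inv_rev, ha, inv_one]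
  exact key x x.2

variable [Finite G]

/-- conjugation of a 2-subgroup into a Sylow 2-subgroup -/
theorem exists_conj_mem (P : Sylow 2 G) {T : Subgroup G} (hT : IsPGroup 2 ↥T) :
    ∃ x : G, ∀ t ∈ T, x * t * x⁻¹ ∈ (P : Subgroup G) := by
  have : Fact (Nat.Prime 2) := ⟨Nat.prime_two⟩
  obtain ⟨Q, hQ⟩ := hT.exists_le_sylow
  obtain ⟨x, hx⟩ := MulAction.exists_smul_eq G Q P
  refine ⟨x, fun t ht => ?_⟩
  rw [← hx, Sylow.coe_subgroup_smul]
  exact ⟨t, hQ ht, rfl⟩

omit [Finite G] in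
theorem order_conj (x t : G) : orderOf (x * t * x⁻¹) = orderOf t := MulEquiv.orderOf_eq (MulAut.conj x) t

omit [Finite G] in
theorem sq_of_order {t : G} (ht : orderOf t = 2) : t * t = 1 := by rw [← pow_two, ← ht, pow_orderOf_eq_one]

/-- **one of `a`, `b`, `a b` is conjugate to `g ^ 4`** -/
theorem exists_mem {g h : G} (D : QDat g h) (hc : ¬ 32 ∣ Nat.card G) {a b : G} (ha : orderOf a = 2)
    (hb : orderOf b = 2) (hab : a * b = b * a) (hne : a ≠ b) :
    ∃ x : G, x * g ^ 4 * x⁻¹ = a ∨ x * g ^ 4 * x⁻¹ = b ∨ x * g ^ 4 * x⁻¹ = a * b := by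
  obtain ⟨P, hP⟩ := D.exists_syl hc
  have hT : IsPGroup 2 ↥(_root_.Subgroup.closure ({a, b} : Set G)) := isPGroup_closure (by
    rintro x (rfl | rfl)
    · exact sq_of_order ha
    · exact sq_of_order hb) (by
    rintro x (rfl | rfl) y (rfl | rfl)
    · rfl
    · exact hab
    · exact hab.symm
    · rfl)
  obtain ⟨x, hx⟩ := exists_conj_mem P hT
  rw [hP] at hx
  have h1 := D.four_mem (hx a (_root_.Subgroup.subset_closure (by simp))) (hx b (_root_.Subgroup.subset_closure (by simp)))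
    (by rw [order_conj, ha]) (by rw [order_conj, hb]) (by
      calc x * a * x⁻¹ * (x * b * x⁻¹) = x * (a * b) * x⁻¹ := by group
        _ = x * (b * a) * x⁻¹ := by rw [hab]
        _ = _ := by group) (fun h => hne (mul_left_cancel (mul_right_cancel h)))
  refine ⟨x⁻¹, ?_⟩
  rw [inv_inv]
  rcases h1 with h1 | h1 | h1
  · left; rw [h1]; group
  · right; left; rw [h1]; group
  · right; right; rw [h1]; group

/-- **an involution commuting with two commuting involutions** -/
theorem rank_two {g h : G} (D : QDat g h) (hc : ¬ 32 ∣ Nat.card G) {a b y : G} (ha : orderOf a = 2)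
    (hb : orderOf b = 2) (hy : orderOf y = 2) (hab : a * b = b * a) (hay : a * y = y * a) (hby : b * y = y * b)
    (hne : a ≠ b) : y = a ∨ y = b ∨ y = a * b := by
  by_contra hcon
  push Not at hcon
  obtain ⟨h1, h2, h3⟩ := hcon
  obtain ⟨P, hP⟩ := D.exists_syl hc
  have haa := sq_of_order ha
  have hbb := sq_of_order hb
  have hyy := sq_of_order hy
  have hT : IsPGroup 2 ↥(_root_.Subgroup.closure ({a, b, y} : Set G)) := isPGroup_closure (by
    rintro x (rfl | rfl | rfl)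
    · exact haa
    · exact hbb
    · exact hyy) (by
    rintro x (rfl | rfl | rfl) z (rfl | rfl | rfl)
    · rfl
    · exact hab
    · exact hay
    · exact hab.symm
    · rfl
    · exact hby
    · exact hay.symm
    · exact hby.symm
    · rfl)
  obtain ⟨x, hx⟩ := exists_conj_mem P hT
  rw [hP] at hx
  have hcj : ∀ {a b : G}, a * b = b * a → x * a * x⁻¹ * (x * b * x⁻¹) = x * b * x⁻¹ * (x * a * x⁻¹) := by
    intro a b hab
    calc x * a * x⁻¹ * (x * b * x⁻¹) = x * (a * b) * x⁻¹ := by group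
      _ = x * (b * a) * x⁻¹ := by rw [hab]
      _ = _ := by group
  have key : ∀ {a b : G}, a ∈ ({a, b} : Set G) → x * a * x⁻¹ ∈ _root_.Subgroup.closure ({g, h} : Set G) →
      x * b * x⁻¹ ∈ closure ({g, h} : Set G) → orderOf a = 2 → orderOf b = 2 → a * b = b * a → a ≠ b →
      x⁻¹ * g ^ 4 * x = a ∨ x⁻¹ * g ^ 4 * x = b ∨ x⁻¹ * g ^ 4 * x = a * b := by
    intro a b _ ha' hb' ha hb hab hne
    rcases D.four_mem ha' hb' (by rw [order_conj, ha]) (by rw [order_conj, hb]) (hcj hab)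
      (fun h => hne (mul_left_cancel (mul_right_cancel h))) with h | h | h
    · left; rw [h]; group
    · right; left; rw [h]; group
    · right; right; rw [h]; group
  have ma := hx a (_root_.Subgroup.subset_closure (by simp))
  have mb := hx b (_root_.Subgroup.subset_closure (by simp))
  have my := hx y (_root_.Subgroup.subset_closure (by simp))
  have k1 := key (by simp) ma mb ha hb hab hne
  have k2 := key (by simp) ma my ha hy hay (Ne.symm h1)
  have k3 := key (by simp) mb my hb hy hby (Ne.symm h2)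
  set s := x⁻¹ * g ^ 4 * x
  have ha1 : a ≠ 1 := by
    rintro rfl
    rw [orderOf_one] at ha
    norm_num at ha
  have hb1 : b ≠ 1 := by
    rintro rfl
    rw [orderOf_one] at hb
    norm_num at hb
  rcases k1 with k1 | k1 | k1
  · rw [k1] at k3
    rcases k3 with k3 | k3 | k3
    · exact hne k3
    · exact h1 k3.symm
    · apply h3
      calc y = b * (b * y) := by rw [← mul_assoc, hbb, one_mul]
        _ = b * (y * b) := by rw [hby]
        _ = a * b := by rw [k3]; group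
  · rw [k1] at k2
    rcases k2 with k2 | k2 | k2
    · exact hne k2.symm
    · exact h2 k2.symm
    · apply h3
      rw [k2]
      calc y = (a * a) * y := by rw [haa, one_mul]
        _ = a * (a * y) := by group
  · rw [k1] at k2
    rcases k2 with k2 | k2 | k2
    · exact hb1 (mul_eq_left.1 k2)
    · exact h3 k2.symm
    · exact h2 (mul_left_cancel k2).symm

end Elem

/-- a group of order `2 m`, `m` odd, has a subgroup of index 2 -/
theorem exists_index_two {Q : Type u} [Group Q] [Finite Q] (h2 : 2 ∣ Nat.card Q) (h4 : ¬ 4 ∣ Nat.card Q) :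
    ∃ M : Subgroup Q, M.index = 2 := by
  have : Fact (Nat.Prime 2) := ⟨Nat.prime_two⟩
  obtain ⟨P⟩ : Nonempty (Sylow 2 Q) := inferInstance
  have hP : Nat.card ↥(P : Subgroup Q) = 2 := by
    rw [P.card_eq_multiplicity]
    have h0 : Nat.card Q ≠ 0 := Nat.card_pos.ne'
    have h5 : (Nat.card Q).factorization 2 = 1 := by
      apply le_antisymm
      · by_contra h6
        apply h4
        have h7 : 2 ^ 2 ∣ Nat.card Q := (Nat.Prime.pow_dvd_iff_le_factorization Nat.prime_two h0).2 (by omega)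
        exact h7
      · exact (Nat.Prime.dvd_iff_one_le_factorization Nat.prime_two h0).1 h2
    rw [h5, pow_one]
  have hcyc : IsCyclic ↥(P : Subgroup Q) := isCyclic_of_prime_card hP
  have hmin : (Nat.card Q).minFac = 2 := (Nat.minFac_eq_two_iff _).2 h2
  have hcomp := IsCyclic.isComplement' hmin hcyc
  exact ⟨_, by rw [hcomp.symm.index_eq_card, hP]⟩

end Cfsg.Agent.CpAutHNFive.QD

end

-- merged: Cfsg.Agent.CpAutHNFive.QDDat
section

/-!
# Groups with a quasi-dihedral Sylow 2-subgroup of order 16 containing `A7` (helper89)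
-/

set_option autoImplicit false

namespace Cfsg.Agent.CpAutHNFive.QD

open Subgroup Cfsg

universe u

/-- the situation of `C(x)`, `x` of the class 5A of `HN` -/
structure Dat {H : Type u} [Group H] (g h w : H) (J : Subgroup H) (u v : H) : Prop where
  D : QDat g h
  not32 : ¬ 32 ∣ Nat.card H
  w3 : w ^ 3 = 1
  hw : w⁻¹ * g ^ 2 * w = g * h
  simple : IsSimpleGroup ↥J
  card : Nat.card ↥J = 2520
  uJ : u ∈ J
  vJ : v ∈ J
  u2 : orderOf u = 2
  v2 : orderOf v = 2
  uv : u * v = v * u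
  ne : u ≠ v

namespace Dat

variable {H : Type u} [Group H] {g h w : H} {J : Subgroup H} {u v : H}

theorem eq_bot_or_le (X : Dat g h w J u v) (N : Subgroup H) [N.Normal] : J ⊓ N = ⊥ ∨ J ≤ N := by
  have := X.simple
  rcases (inferInstance : (N.subgroupOf J).Normal).eq_bot_or_eq_top with h1 | h1
  · left
    rw [subgroupOf_eq_bot] at h1
    rw [inf_comm]
    exact h1.eq_bot
  · right
    exact subgroupOf_eq_top.1 h1

theorem exists_conj [Finite H] (X : Dat g h w J u v) : ∃ x : H, x * g ^ 4 * x⁻¹ ∈ J := by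
  obtain ⟨x, hx⟩ := exists_mem X.D X.not32 X.u2 X.v2 X.uv X.ne
  refine ⟨x, ?_⟩
  rcases hx with hx | hx | hx <;> rw [hx]
  · exact X.uJ
  · exact X.vJ
  · exact J.mul_mem X.uJ X.vJ

theorem four_ne (X : Dat g h w J u v) : g ^ 4 ≠ 1 := X.D.pow_ne (by norm_num) (by norm_num)

/-- a normal subgroup of even order contains `g ^ 4` -/
theorem four_mem [Finite H] (X : Dat g h w J u v) {N : Subgroup H} [hN : N.Normal] (he : 2 ∣ Nat.card ↥N) :
    g ^ 4 ∈ N := by
  have : Fact (Nat.Prime 2) := ⟨Nat.prime_two⟩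
  obtain ⟨t, ht⟩ := exists_prime_orderOf_dvd_card' 2 he
  have ht2 : orderOf (t : H) = 2 := by rw [Subgroup.orderOf_coe, ht]
  obtain ⟨P, hP⟩ := X.D.exists_syl X.not32
  obtain ⟨x, hx⟩ := exists_conj_mem P (T := zpowers (t : H))
    (IsPGroup.of_card (n := 1) (by rw [Nat.card_zpowers, ht2, pow_one]))
  rw [hP] at hx
  refine X.D.four_mem_of_normal (fun x _ n hn => hN.conj_mem n hn x) (hx t (mem_zpowers _)) (hN.conj_mem _ t.2 x) ?_
  rw [Ne, conj_eq_one_iff]
  intro h1
  rw [h1, orderOf_one] at ht2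
  norm_num at ht2

/-- **A normal subgroup of even order contains `J`.** -/
theorem le_of_even [Finite H] (X : Dat g h w J u v) {N : Subgroup H} [hN : N.Normal] (he : 2 ∣ Nat.card ↥N) :
    J ≤ N := by
  rcases X.eq_bot_or_le N with h1 | h1
  · exfalso
    obtain ⟨x, hx⟩ := X.exists_conj
    have h2 : x * g ^ 4 * x⁻¹ ∈ J ⊓ N := ⟨hx, hN.conj_mem _ (X.four_mem he) x⟩
    rw [h1, mem_bot, conj_eq_one_iff] at h2
    exact X.four_ne h2
  · exact h1

/-- **There is no subgroup of index 2.** -/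
theorem not_index_two [Finite H] (X : Dat g h w J u v) (M : Subgroup H) : M.index ≠ 2 := by
  intro hM
  have hn : M.Normal := Subgroup.normal_of_index_eq_two hM
  have hsq : ∀ a : H, a ^ 2 ∈ M := fun a => Subgroup.sq_mem_of_index_two hM a
  have hwM : w ∈ M := by
    have h1 : (w ^ 2) ^ 2 = w := by
      rw [← pow_mul, show 2 * 2 = 3 + 1 from rfl, pow_add, X.w3, one_mul, pow_one]
    rw [← h1]
    exact hsq _
  have hghM : g * h ∈ M := by
    rw [← X.hw]
    exact M.mul_mem (M.mul_mem (M.inv_mem hwM) (hsq g)) hwM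
  have hodd : ¬ 2 ∣ 1 := by norm_num
  have heven : 2 ∣ Nat.card ↥M := by
    have h1 : orderOf (⟨g ^ 2, hsq g⟩ : ↥M) ∣ Nat.card ↥M := _root_.orderOf_dvd_natCard _
    rw [← Subgroup.orderOf_coe] at h1
    change orderOf (g ^ 2) ∣ _ at h1
    rw [orderOf_pow, X.D.hg] at h1
    exact dvd_trans (by norm_num) h1
  have hJ := X.le_of_even (N := M) heven
  -- `g ∉ M`
  obtain ⟨P, hP⟩ := X.D.exists_syl X.not32
  have hgM : g ∉ M := by
    intro hg
    have hh : h ∈ M := by
      have h1 : h = g⁻¹ * (g * h) := by group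
      rw [h1]
      exact M.mul_mem (M.inv_mem hg) hghM
    have h1 : _root_.Subgroup.closure ({g, h} : Set H) ≤ M := by
      rw [closure_le]
      rintro x (rfl | rfl)
      · exact hg
      · exact hh
    have h2 := card_dvd_of_le h1
    rw [X.D.card] at h2
    apply X.not32
    rw [← M.card_mul_index, hM]
    exact Nat.mul_dvd_mul h2 (dvd_refl 2)
  -- involutions of `P ∩ M`
  have huniq : ∀ t : H, t ∈ M → t ∈ closure ({g, h} : Set H) → orderOf t = 2 → t = g ^ 4 := by
    intro t htM ht ht2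
    have htt := sq_of_order ht2
    have ht1 : t ≠ 1 := by
      rintro rfl
      rw [orderOf_one] at ht2
      norm_num at ht2
    obtain ⟨i, hi8, hi | hi⟩ := X.D.mem_form' ht
    · rw [hi] at htt ht1 ⊢
      exact X.D.pow_sq htt ht1
    · exfalso
      -- `i` is even
      have h1 : g ^ (4 * i) = 1 := by
        rw [hi] at htt
        rw [← htt]
        calc g ^ (4 * i) = g ^ i * g ^ (3 * i) * (h * h) := by rw [X.D.hh2, mul_one, ← pow_add]; congr 1; ring
          _ = g ^ i * (g ^ (3 * i) * h) * h := by group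
          _ = g ^ i * (h * g ^ i) * h := by rw [X.D.comm]
          _ = g ^ i * h * (g ^ i * h) := by group
      have h2 := orderOf_dvd_of_pow_eq_one h1
      rw [X.D.hg] at h2
      obtain ⟨j, hj⟩ : 2 ∣ i := by omega
      have h3 : g ^ i ∈ M := by rw [hj, pow_mul]; exact M.pow_mem (hsq g) j
      have h4 : h ∈ M := by
        have h5 : h = (g ^ i)⁻¹ * t := by rw [hi]; group
        rw [h5]
        exact M.mul_mem (M.inv_mem h3) htM
      apply hgM
      have h5 : g = (g * h) * h⁻¹ := by group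
      rw [h5]
      exact M.mul_mem hghM (M.inv_mem h4)
  obtain ⟨x, hx⟩ := exists_conj_mem P (T := _root_.Subgroup.closure ({u, v} : Set H)) (isPGroup_closure (by
    rintro x (rfl | rfl)
    · exact sq_of_order X.u2
    · exact sq_of_order X.v2) (by
    rintro x (rfl | rfl) y (rfl | rfl)
    · rfl
    · exact X.uv
    · exact X.uv.symm
    · rfl))
  rw [hP] at hx
  have h1 := huniq _ (hn.conj_mem _ (hJ X.uJ) x) (hx u (_root_.Subgroup.subset_closure (by simp))) (by rw [order_conj, X.u2])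
  have h2 := huniq _ (hn.conj_mem _ (hJ X.vJ) x) (hx v (_root_.Subgroup.subset_closure (by simp))) (by rw [order_conj, X.v2])
  exact X.ne (mul_left_cancel (mul_right_cancel (h1.trans h2.symm)))

/-- **A normal subgroup containing `J` contains the Sylow 2-subgroups.** -/
theorem mem_of_le [Finite H] (X : Dat g h w J u v) {N : Subgroup H} [hN : N.Normal] (hJ : J ≤ N) : g ∈ N ∧ h ∈ N := by
  have h8 : 8 ∣ Nat.card ↥N := by
    have h1 := card_dvd_of_le hJ
    rw [X.card] at h1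
    exact dvd_trans (by norm_num) h1
  have hodd : ¬ 2 ∣ N.index := by
    intro h2
    have h4 : ¬ 4 ∣ Nat.card (H ⧸ N) := by
      intro h4
      apply X.not32
      rw [← N.card_mul_index]
      exact Nat.mul_dvd_mul h8 h4
    obtain ⟨M, hM⟩ := exists_index_two (Q := H ⧸ N) h2 h4
    apply X.not_index_two (M.comap (QuotientGroup.mk' N))
    rw [index_comap_of_surjective M (QuotientGroup.mk'_surjective N), hM]
  have key : ∀ t : H, t ^ 8 = 1 → t ∈ N := by
    intro t ht
    rw [← QuotientGroup.eq_one_iff]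
    have h1 : ((t : H ⧸ N)) ^ 8 = 1 := by
      rw [← QuotientGroup.mk_pow, ht]
      rfl
    have h2 : orderOf (t : H ⧸ N) ∣ 2 ^ 3 := orderOf_dvd_of_pow_eq_one (by norm_num; exact h1)
    have h3 : orderOf (t : H ⧸ N) ∣ N.index := _root_.orderOf_dvd_natCard _
    have h4 : orderOf (t : H ⧸ N) = 1 := by
      refine Nat.eq_one_of_dvd_coprimes ?_ h2 h3
      exact Nat.Coprime.pow_left 3 ((Nat.Prime.coprime_iff_not_dvd Nat.prime_two).2 hodd)
    exact orderOf_eq_one_iff.1 h4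
  refine ⟨key g X.D.g8, key h ?_⟩
  rw [show 8 = 2 * 4 from rfl, pow_mul, pow_two, X.D.hh2, one_pow]

end Dat

end Cfsg.Agent.CpAutHNFive.QD

end

-- merged: Cfsg.Agent.CpAutHNFive.Num
section

/-!
# Groups `L3(q)`, `U3(q)` of order dividing `|HN|` (helper89)

* `false_psl` : `q % 4 = 3`: `|L3(q)|` does not divide `|HN|`;
* `psu_five` : `q % 4 = 1`: if `|U3(q)|` divides `|HN|` then `q = 5`.
-/

set_option autoImplicit false

namespace Cfsg.Agent.CpAutHNFive.Num

/-- the order of HN -/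
def N0 : ℕ := 273030912000000

theorem three_N0 : 3 * N0 = 2 ^ 14 * 3 ^ 7 * 5 ^ 6 * 7 * 11 * 19 := by norm_num [N0]

theorem prime_cases {p : ℕ} (hp : p.Prime) (h : p ∣ 3 * N0) : p = 2 ∨ p = 3 ∨ p = 5 ∨ p = 7 ∨ p = 11 ∨ p = 19 := by
  rw [three_N0] at h
  rcases hp.dvd_mul.1 h with h | h
  · rcases hp.dvd_mul.1 h with h | h
    · rcases hp.dvd_mul.1 h with h | h
      · rcases hp.dvd_mul.1 h with h | h
        · rcases hp.dvd_mul.1 h with h | h
          · exact Or.inl ((Nat.prime_dvd_prime_iff_eq hp Nat.prime_two).1 (hp.dvd_of_dvd_pow h))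
          · exact Or.inr (Or.inl ((Nat.prime_dvd_prime_iff_eq hp Nat.prime_three).1 (hp.dvd_of_dvd_pow h)))
        · exact Or.inr (Or.inr (Or.inl ((Nat.prime_dvd_prime_iff_eq hp Nat.prime_five).1 (hp.dvd_of_dvd_pow h))))
      · exact Or.inr (Or.inr (Or.inr (Or.inl ((Nat.prime_dvd_prime_iff_eq hp (by norm_num)).1 h))))
    · exact Or.inr (Or.inr (Or.inr (Or.inr (Or.inl ((Nat.prime_dvd_prime_iff_eq hp (by norm_num)).1 h)))))
  · exact Or.inr (Or.inr (Or.inr (Or.inr (Or.inr ((Nat.prime_dvd_prime_iff_eq hp (by norm_num)).1 h)))))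

theorem cube_cases {q : ℕ} (hq : IsPrimePow q) (hodd : q % 2 = 1) (h : q ^ 3 ∣ 3 * N0) :
    q = 3 ∨ q = 9 ∨ q = 5 ∨ q = 25 := by
  rw [isPrimePow_nat_iff] at hq
  obtain ⟨p, k, hp, hk, rfl⟩ := hq
  have hpd : p ∣ 3 * N0 := ((dvd_pow_self p hk.ne').trans (dvd_pow_self _ (by norm_num))).trans h
  rw [← pow_mul] at h
  have key : ∀ n : ℕ, n ≤ k → p ^ (n * 3) ∣ 3 * N0 := fun n hn =>
    (pow_dvd_pow p (Nat.mul_le_mul_right 3 hn)).trans h
  rcases prime_cases hp hpd with rfl | rfl | rfl | rfl | rfl | rfl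
  · exfalso
    have h2 : 2 ∣ 2 ^ k := dvd_pow_self 2 hk.ne'
    omega
  · have h3 : k < 3 := by
      by_contra h3
      have := key 3 (by omega)
      norm_num [N0] at this
    interval_cases k
    · left; rfl
    · right; left; rfl
  · have h3 : k < 3 := by
      by_contra h3
      have := key 3 (by omega)
      norm_num [N0] at this
    interval_cases k
    · right; right; left; rfl
    · right; right; right; rfl
  · exfalso
    have := key 1 hk
    norm_num [N0] at this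
  · exfalso
    have := key 1 hk
    norm_num [N0] at this
  · exfalso
    have := key 1 hk
    norm_num [N0] at this

variable {G : Type} [Group G]

theorem card_psl {F : Type} [Field F] [Fintype F] (e : G ≃* Matrix.ProjectiveSpecialLinearGroup (Fin 3) F) :
    Nat.gcd 3 (Fintype.card F - 1) * Nat.card G =
      Fintype.card F ^ 3 * ((Fintype.card F ^ 2 - 1) * (Fintype.card F ^ 3 - 1)) := by
  have h1 := Cfsg.Agent.S0243.result (F := F) rfl 3 (by norm_num)
  rw [Fin.prod_univ_three, ← Nat.card_congr e.toEquiv] at h1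
  have hq : 1 < Fintype.card F := Fintype.one_lt_card
  generalize Fintype.card F = q at h1 hq ⊢
  generalize Nat.card G = N at h1 ⊢
  obtain ⟨u, rfl⟩ : ∃ u, q = u + 1 := ⟨q - 1, by omega⟩
  rw [Nat.add_sub_cancel] at h1 ⊢
  generalize Nat.gcd 3 u = g at h1 ⊢
  simp only [Fin.val_zero, Fin.val_one, Fin.val_two, pow_zero, pow_one] at h1
  have e1 : (u + 1) ^ 3 - 1 = u * (u ^ 2 + 3 * u + 3) := by
    have : (u + 1) ^ 3 = u * (u ^ 2 + 3 * u + 3) + 1 := by ring
    rw [this, Nat.add_sub_cancel]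
  have e2 : (u + 1) ^ 3 - (u + 1) = u * ((u + 1) * (u + 2)) := by
    have : (u + 1) ^ 3 = u * ((u + 1) * (u + 2)) + (u + 1) := by ring
    rw [this, Nat.add_sub_cancel]
  have e3 : (u + 1) ^ 3 - (u + 1) ^ 2 = u * (u + 1) ^ 2 := by
    have : (u + 1) ^ 3 = u * (u + 1) ^ 2 + (u + 1) ^ 2 := by ring
    rw [this, Nat.add_sub_cancel]
  have e4 : (u + 1) ^ 2 - 1 = u * (u + 2) := by
    have : (u + 1) ^ 2 = u * (u + 2) + 1 := by ring
    rw [this, Nat.add_sub_cancel]
  rw [e1, e2, e3] at h1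
  rw [e1, e4]
  have hu : 0 < u := by omega
  refine Nat.eq_of_mul_eq_mul_left hu ?_
  calc u * (g * N) = g * (u * N) := by ring
    _ = _ := h1
    _ = _ := by ring

theorem card_psu {F : Type} [Field F] [Fintype F] {q : ℕ} (hF : Fintype.card F = q ^ 2)
    (e : G ≃* Cfsg.PSU 3 F q) :
    Nat.gcd 3 (q + 1) * Nat.card G = q ^ 3 * ((q ^ 2 - 1) * (q ^ 3 + 1)) := by
  have h1 := Cfsg.Agent.S0280.result hF 3 (by norm_num)
  rw [← Nat.card_congr e.toEquiv] at h1
  norm_num only [Finset.prod_range_succ, Nat.even_iff, _root_.Finset.range_one, _root_.Finset.prod_singleton, _root_.pow_one, _root_.ite_true, _root_.ite_false] at h1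
  generalize Nat.card G = N at h1 ⊢
  generalize Nat.gcd 3 (q + 1) = g at h1 ⊢
  refine Nat.eq_of_mul_eq_mul_left (show 0 < q + 1 by omega) ?_
  calc (q + 1) * (g * N) = g * ((q + 1) * N) := by ring
    _ = _ := h1
    _ = _ := by ring

theorem cube_dvd {g n q m : ℕ} (hg : g ∣ 3) (hn : n ∣ N0) (h : g * n = q ^ 3 * m) : q ^ 3 ∣ 3 * N0 :=
  (Dvd.intro m h.symm).trans (Nat.mul_dvd_mul hg hn)

theorem false_psl (hc : Nat.card G ∣ N0) {F : Type} [Field F] [Fintype F] (h4 : Fintype.card F % 4 = 3)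
    (e : G ≃* Matrix.ProjectiveSpecialLinearGroup (Fin 3) F) : False := by
  have h1 := card_psl e
  have h2 := cube_dvd (Nat.gcd_dvd_left 3 _) hc h1
  rcases cube_cases (FiniteField.isPrimePow_card F) (by omega) h2 with h | h | h | h
  · rw [h] at h1
    norm_num at h1
    rw [h1] at hc
    norm_num [N0] at hc
  all_goals omega

theorem psu_five (hc : Nat.card G ∣ N0) {F : Type} [Field F] [Fintype F] {q : ℕ} (hF : Fintype.card F = q ^ 2)
    (h4 : q % 4 = 1) (e : G ≃* Cfsg.PSU 3 F q) : q = 5 := by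
  have h1 := card_psu hF e
  have h2 := cube_dvd (Nat.gcd_dvd_left 3 _) hc h1
  have hpp := FiniteField.isPrimePow_card F
  rw [hF] at hpp
  have hq : IsPrimePow q := (isPrimePow_pow_iff (by norm_num)).mp hpp
  rcases cube_cases hq (by omega) h2 with rfl | rfl | rfl | rfl
  · omega
  · exfalso
    norm_num at h1
    rw [h1] at hc
    norm_num [N0] at hc
  · rfl
  · exfalso
    norm_num at h1
    rw [h1] at hc
    norm_num [N0] at hc

theorem isLieTypeChar {F : Type} [Field F] [Fintype F] (hF : Fintype.card F = 5 ^ 2) (e : G ≃* Cfsg.PSU 3 F 5) :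
    Cfsg.IsLieTypeChar 5 G := by
  have : Fact (Nat.Prime 5) := ⟨Nat.prime_five⟩
  have hch : CharP F 5 := by
    obtain ⟨p, hp⟩ := CharP.exists F
    obtain ⟨n, hpp, hn⟩ := FiniteField.card F p
    rw [hF] at hn
    have h1 : p ∣ 5 ^ 2 := by rw [hn]; exact dvd_pow_self p n.ne_zero
    have h2 : p = 5 := (Nat.prime_dvd_prime_iff_eq hpp Nat.prime_five).1 (hpp.dvd_of_dvd_pow h1)
    rwa [h2] at hp
  exact Or.inr (Or.inr (Or.inl ⟨F, inferInstance, inferInstance, hch, 3, 5, hF, le_rfl, by norm_num, ⟨e⟩⟩))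

end Cfsg.Agent.CpAutHNFive.Num

end

-- merged: Cfsg.Agent.CpAutHNFive.QDComp
section

/-!
# Components of groups with a quasi-dihedral Sylow 2-subgroup of order 16 containing `A7` (helper89)

* `Dat.comps` : if the order divides `|HN|` then `Comps 5`: the only component is a cover of `U3(5)`.
-/

set_option autoImplicit false

namespace Cfsg.Agent.CpAutHNFive.QD

open Subgroup Cfsg Cfsg.Agent.LThree Cfsg.Agent.SignalizersComponents
open Cfsg.Agent.CpAutTh.RankOne (UInv)

/-- images -/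
theorem QDat.map {G G' : Type*} [Group G] [Group G'] {g h : G} (D : QDat g h) (f : G →* G') (h4 : f (g ^ 4) ≠ 1) :
    QDat (f g) (f h) := by
  have : Fact (Nat.Prime 2) := ⟨Nat.prime_two⟩
  refine ⟨?_, ?_, ?_⟩
  · have h1 : orderOf (f g) ∣ 2 ^ 3 := by
      apply orderOf_dvd_of_pow_eq_one
      rw [← map_pow, show (2 : ℕ) ^ 3 = 8 by norm_num, D.g8, map_one]
    obtain ⟨k, hk, h2⟩ := (Nat.dvd_prime_pow Nat.prime_two).1 h1
    have h3 : ¬ orderOf (f g) ∣ 4 := by
      intro h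
      apply h4
      rw [map_pow]
      exact orderOf_dvd_iff_pow_eq_one.1 h
    rw [h2] at h3 ⊢
    interval_cases k
    · norm_num at h3
    · norm_num at h3
    · norm_num at h3
    · norm_num
  · apply orderOf_eq_prime
    · rw [← map_pow, pow_two, D.hh2, map_one]
    · intro h1
      apply h4
      have h2 : f g = f g ^ 3 := by
        rw [← map_pow, ← D.hgh, map_mul, map_mul, map_inv, h1, one_mul, inv_one, mul_one]
      have h3 : f g ^ 2 = 1 := by
        have h5 : f g * f g ^ 2 = f g * 1 := by rw [← pow_succ', mul_one]; exact h2.symm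
        exact mul_left_cancel h5
      rw [map_pow, show 4 = 2 * 2 from rfl, pow_mul, h3, one_pow]
  · rw [← map_inv, ← map_mul, ← map_mul, D.hgh, map_pow]

/-- an involution is not in a subgroup of odd order -/
theorem not_mem_of_odd {G : Type*} [Group G] {N : Subgroup G} (hN : Odd (Nat.card ↥N)) {t : G} (ht : orderOf t = 2) :
    t ∉ N := by
  intro h
  have h1 : orderOf (⟨t, h⟩ : ↥N) ∣ Nat.card ↥N := _root_.orderOf_dvd_natCard _
  rw [← Subgroup.orderOf_coe] at h1
  change orderOf t ∣ _ at h1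
  rw [ht] at h1
  exact (Nat.not_even_iff_odd.2 hN) (even_iff_two_dvd.2 h1)

/-- non-cyclic simple groups have different commuting involutions -/
theorem not_uInv (h204 : ∀ (K : Type) [Group K] [Finite K] [IsSimpleGroup K], ¬ IsCyclic K →
    ∃ E : Subgroup K, IsKleinFour E) {K : Type} [Group K] [Finite K] [IsSimpleGroup K] (hcyc : ¬ IsCyclic K) :
    ¬ UInv K := by
  intro hU
  obtain ⟨E, hE⟩ := h204 K hcyc
  have h4 : Nat.card ↥E = 4 := hE.card_four
  have hsq : ∀ x : ↥E, x * x = 1 := by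
    intro x
    have h6 := Monoid.pow_exponent_eq_one x
    rw [hE.exponent_two, pow_two] at h6
    exact h6
  have h5 : ∀ a : ↥E, a ≠ 1 → orderOf (a : K) = 2 := by
    intro a ha
    rw [Subgroup.orderOf_coe]
    have : Fact (Nat.Prime 2) := ⟨Nat.prime_two⟩
    exact orderOf_eq_prime (by rw [pow_two]; exact hsq a) ha
  have hcommE : ∀ a b : ↥E, a * b = b * a := by
    intro a b
    have h7 := hsq (a * b)
    calc a * b = a * b * ((a * b) * (a * b))⁻¹ := by rw [h7, inv_one, mul_one]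
      _ = b⁻¹ * a⁻¹ := by group
      _ = b * a := by rw [inv_eq_of_mul_eq_one_left (hsq a), inv_eq_of_mul_eq_one_left (hsq b)]
  have h6 : ∃ a b : ↥E, a ≠ 1 ∧ b ≠ 1 ∧ a ≠ b := by
    by_contra hcon
    push Not at hcon
    have h7 : ∃ a : ↥E, a ≠ 1 := by
      by_contra h8
      push Not at h8
      have : Subsingleton ↥E := ⟨fun a b => by rw [h8 a, h8 b]⟩
      rw [Nat.card_unique] at h4
      omega
    obtain ⟨a, ha⟩ := h7
    have h8 : (Set.univ : Set ↥E) ⊆ {1, a} := by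
      intro b _
      by_cases hb1 : b = 1
      · exact Or.inl hb1
      · exact Or.inr (hcon a b ha hb1).symm
    have h9 := Set.ncard_le_ncard h8 (Set.toFinite _)
    rw [Set.ncard_univ, h4] at h9
    have h10 := Set.ncard_insert_le (1 : ↥E) {a}
    rw [Set.ncard_singleton] at h10
    omega
  obtain ⟨a, b, ha, hb', hab⟩ := h6
  exact hab (Subtype.ext (hU _ _ (h5 a ha) (h5 b hb') (congrArg Subtype.val (hcommE a b))))

theorem not_cyclic_of_quasisimple {L : Type*} [Group L] (hL : IsQuasisimple L) : ¬ IsCyclic (L ⧸ center L) := by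
  intro hcyc
  apply Components.quasisimple_not_isSolvable hL
  rw [Group.isSolvable_iff_subgroup_quotient (center L)]
  refine ⟨Group.isSolvable_of_comm fun a b => Subtype.ext (mem_center_iff.1 b.2 a), ?_⟩
  exact Group.isSolvable_of_comm fun a b => (IsCyclic.commGroup (α := L ⧸ center L)).mul_comm a b

namespace Dat

variable {H : Type} [Group H] [Finite H] {g h w : H} {J : Subgroup H} {u v : H}

/-- `O_{5'}(H)` has odd order -/
theorem odd_core (X : Dat g h w J u v) : Odd (Nat.card ↥(pPrimeCore 5 H)) := by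
  have hn := Lib.Cores.pPrimeCore_normal (G := H) 5
  by_contra he
  rw [Nat.not_odd_iff_even] at he
  have h1 := X.le_of_even (N := pPrimeCore 5 H) (even_iff_two_dvd.1 he)
  have h2 := card_dvd_of_le h1
  rw [X.card] at h2
  have h3 : 5 ∣ Nat.card ↥(pPrimeCore 5 H) := dvd_trans (by norm_num) h2
  have h4 : (Nat.card ↥(pPrimeCore 5 H)).Coprime 5 := Lib.Cores.pPrimeCore_coprime 5
  have h5 := Nat.dvd_gcd h3 (dvd_refl 5)
  rw [h4.gcd_eq_one] at h5
  norm_num at h5

/-- **The components.** -/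
theorem comps (FT : ∀ (K : Type) [Group K] [Finite K], Odd (Nat.card K) → Group.IsSolvable K)
    (h204 : ∀ (K : Type) [Group K] [Finite K] [IsSimpleGroup K], ¬ IsCyclic K → ∃ E : Subgroup K, IsKleinFour E)
    (h507 : ∀ (K : Type) [Group K] [Finite K] [IsSimpleGroup K] (S : Sylow 2 K),
      IsQuasiDihedral (S : Subgroup K) →
      (∃ (F : Type) (_ : Field F) (_ : Fintype F), Fintype.card F % 4 = 3 ∧
        Nonempty (K ≃* Matrix.ProjectiveSpecialLinearGroup (Fin 3) F)) ∨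
      (∃ (F : Type) (_ : Field F) (_ : Fintype F) (q : ℕ), Fintype.card F = q ^ 2 ∧ q % 4 = 1 ∧
        Nonempty (K ≃* PSU 3 F q)) ∨ IsM11 K)
    (X : Dat g h w J u v) (hcard : Nat.card H ∣ Num.N0) : Comps 5 H := by
  have : Fact (Nat.Prime 2) := ⟨Nat.prime_two⟩
  have : Fact (Nat.Prime 5) := ⟨Nat.prime_five⟩
  have hn := Lib.Cores.pPrimeCore_normal (G := H) 5
  have hR := X.odd_core
  intro L hL
  set R := pPrimeCore 5 H with hRdef
  let π := QuotientGroup.mk' R
  have hb : pPrimeCore 5 (H ⧸ R) = ⊥ := Lib.Cores.pPrimeCore_quotient_pPrimeCore 5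
  have hZ : IsPGroup 5 ↥(center ↥L) := Red.isPGroup_center_comp Nat.prime_five hb hL.1
  have hZ2 : Odd (Nat.card ↥(center ↥L)) := by
    obtain ⟨n, hn⟩ := IsPGroup.iff_card.1 hZ
    rw [hn]
    exact (show Odd 5 by decide).pow
  have hsimp : IsSimpleGroup (↥L ⧸ center ↥L) := hL.2.2
  have hcyc := not_cyclic_of_quasisimple hL.2
  -- the Sylow 2-subgroup of `H / R`
  have h32 : ¬ 32 ∣ Nat.card (H ⧸ R) := fun h1 => X.not32 (h1.trans (card_quotient_dvd_card R))
  have ho4 : orderOf (g ^ 4) = 2 := by rw [orderOf_pow, X.D.hg]; norm_num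
  have D1 : QDat (π g) (π h) := X.D.map π (fun h1 => not_mem_of_odd hR ho4 ((QuotientGroup.eq_one_iff _).1 h1))
  -- two commuting involutions of `L`
  obtain ⟨a, b, ha, hb2, hab, hne⟩ : ∃ a b : ↥L, orderOf a = 2 ∧ orderOf b = 2 ∧ a * b = b * a ∧ a ≠ b := by
    by_contra hcon
    push Not at hcon
    have hU : UInv ↥L := fun a b ha hb hab => hcon a b ha hb hab
    exact not_uInv h204 hcyc (hU.quot _ hZ2)
  -- the centraliser of `L` has odd order
  have hW : Odd (Nat.card ↥(centralizer (L : Set (H ⧸ R)))) := by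
    rw [← Nat.not_even_iff_odd]
    intro he
    obtain ⟨y, hy⟩ := exists_prime_orderOf_dvd_card' 2 (even_iff_two_dvd.1 he)
    have hy2 : orderOf (y : H ⧸ R) = 2 := by rw [Subgroup.orderOf_coe, hy]
    have hyc : ∀ l ∈ L, l * (y : H ⧸ R) = y * l := fun l hl => mem_centralizer_iff.1 y.2 l hl
    have h1 := rank_two D1 h32 (a := (a : H ⧸ R)) (b := (b : H ⧸ R)) (y := y) (by rw [Subgroup.orderOf_coe, ha])
      (by rw [Subgroup.orderOf_coe, hb2]) hy2 (congrArg Subtype.val hab) (hyc a a.2) (hyc b b.2)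
      (fun h => hne (Subtype.ext h))
    have hyL : (y : H ⧸ R) ∈ L := by
      rcases h1 with h1 | h1 | h1 <;> rw [h1]
      · exact a.2
      · exact b.2
      · exact L.mul_mem a.2 b.2
    refine not_mem_of_odd hZ2 (t := (⟨y, hyL⟩ : ↥L)) (by rw [← Subgroup.orderOf_coe]; exact hy2) ?_
    rw [mem_center_iff]
    intro l
    exact Subtype.ext (hyc l l.2)
  have huniq : ∀ M : Subgroup (H ⧸ R), IsComponent M → M = L := by
    intro M hM
    by_contra hne
    have h1 := Components.component_le_centralizer_of_ne hM hL hne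
    have h2 : Odd (Nat.card ↥M) := hW.of_dvd_nat (card_dvd_of_le h1)
    exact Components.quasisimple_not_isSolvable hM.2 (FT _ h2)
  have hLn : L.Normal := by
    refine ⟨fun n hn g => ?_⟩
    have h1 := huniq _ (Components.isComponent_conj g hL)
    have h2 : (MulAut.conj g) n ∈ L.map (MulAut.conj g).toMonoidHom := ⟨n, hn, rfl⟩
    rw [h1] at h2
    exact h2
  -- the preimage of `L`
  have hNn : (L.comap π).Normal := hLn.comap π
  let θ₁ : ↥(L.comap π) →* ↥L := π.subgroupComap L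
  have hθ₁ : Function.Surjective θ₁ := π.subgroupComap_surjective_of_surjective L (QuotientGroup.mk'_surjective R)
  have hNe : 2 ∣ Nat.card ↥(L.comap π) := by
    have h1 : orderOf a ∣ Nat.card ↥L := _root_.orderOf_dvd_natCard _
    rw [ha] at h1
    exact h1.trans (card_dvd_of_surjective θ₁ hθ₁)
  have hJ := X.le_of_even (N := L.comap π) hNe
  obtain ⟨hgN, hhN⟩ := X.mem_of_le (N := L.comap π) hJ
  let θ : ↥(L.comap π) →* ↥L ⧸ center ↥L := (QuotientGroup.mk' (center ↥L)).comp θ₁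
  have hθ : ∀ t : ↥(L.comap π), orderOf t = 2 → θ t ≠ 1 := by
    intro t ht h1
    have ht2 : orderOf (t : H) = 2 := by rw [Subgroup.orderOf_coe, ht]
    have h2 : θ₁ t ∈ center ↥L := (QuotientGroup.eq_one_iff _).1 h1
    have h3 : θ₁ t ≠ 1 := by
      intro h3
      apply not_mem_of_odd hR ht2
      rw [← QuotientGroup.eq_one_iff]
      exact congrArg Subtype.val h3
    have h4 : orderOf (θ₁ t) = 2 := by
      apply orderOf_eq_prime _ h3
      rw [← map_pow, ← ht, pow_orderOf_eq_one, map_one]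
    exact not_mem_of_odd hZ2 h4 h2
  -- the Sylow 2-subgroup of the simple group
  have D2 : QDat (⟨g, hgN⟩ : ↥(L.comap π)) ⟨h, hhN⟩ := by
    refine ⟨?_, ?_, Subtype.ext X.D.hgh⟩
    · rw [← Subgroup.orderOf_coe]; exact X.D.hg
    · rw [← Subgroup.orderOf_coe]; exact X.D.hh
  have D3 : QDat (θ ⟨g, hgN⟩) (θ ⟨h, hhN⟩) := by
    refine D2.map θ (hθ _ ?_)
    rw [orderOf_pow, D2.hg]
    norm_num
  have hKH : Nat.card (↥L ⧸ center ↥L) ∣ Nat.card H :=
    (card_quotient_dvd_card _).trans ((card_subgroup_dvd_card L).trans (card_quotient_dvd_card R))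
  obtain ⟨S, hS⟩ := D3.exists_syl fun h1 => X.not32 (h1.trans hKH)
  have hqd : IsQuasiDihedral ↥(S : Subgroup (↥L ⧸ center ↥L)) := by
    rw [hS]
    exact D3.isQuasiDihedral
  -- the order is divisible by 7
  have h7 : 7 ∣ Nat.card (↥L ⧸ center ↥L) := by
    let κ : ↥J →* ↥L ⧸ center ↥L := θ.comp (inclusion hJ)
    have hsJ := X.simple
    have hκ : Function.Injective κ := by
      rw [← MonoidHom.ker_eq_bot_iff]
      rcases (inferInstance : κ.ker.Normal).eq_bot_or_eq_top with h1 | h1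
      · exact h1
      · exfalso
        have h2 : (⟨u, X.uJ⟩ : ↥J) ∈ κ.ker := by rw [h1]; exact mem_top _
        refine hθ (inclusion hJ ⟨u, X.uJ⟩) ?_ h2
        rw [← Subgroup.orderOf_coe]
        exact X.u2
    have h1 := card_dvd_of_injective κ hκ
    rw [X.card] at h1
    exact dvd_trans (by norm_num) h1
  -- the list
  have hchar : IsLieTypeChar 5 (↥L ⧸ center ↥L) := by
    rcases h507 _ S hqd with ⟨F, _, _, h1, ⟨e⟩⟩ | ⟨F, _, _, q, hF, h1, ⟨e⟩⟩ | h1
    · exact (Num.false_psl (hKH.trans hcard) h1 e).elim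
    · obtain rfl := Num.psu_five (hKH.trans hcard) hF h1 e
      exact Num.isLieTypeChar hF e
    · exfalso
      rw [h1.2] at h7
      norm_num at h7
  refine ⟨hL.2, hZ, Or.inl (Or.inl hchar), ?_⟩
  rintro (⟨h1, -⟩ | ⟨h1, -⟩)
  · norm_num at h1
  · norm_num at h1

end Dat

end Cfsg.Agent.CpAutHNFive.QD

end

-- merged: Cfsg.Agent.CpAutHNFive.Main
section

/-!
# S1814: the row `AutC 5 HN` (helper89)

* `exists_dat` : `C(ψ w2)` satisfies `QD.Dat` (a 5-cycle of `A12` commutes with `A7` and with a conjugate of `ψ τ`);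
* `comps` : `Comps 5 C(x)` for all `x` of order 5;
* `autC` : the row.
-/

set_option autoImplicit false

namespace Cfsg.Agent.CpAutHNFive.Main

open Cfsg.Agent.HN.Pres Cfsg.Agent.HN.H0Basic
open Cfsg.Agent.HN.P1408 hiding ψ
open Cfsg.Agent.HN.NormalH (ψ)
open Cfsg Cfsg.Agent
open Cfsg.Agent.KFacts.HN
open Cfsg.Agent.LThree (Comps)
open Cfsg.Agent.CpAut (AutC AutInner)
open Cfsg.Agent.CpAutTh.RankOne (UInv)
open Cfsg.Agent.CpAutHN.Alt
open Cfsg.Agent.CpAutHN.Pairs (instSimple tt order_tt comm_of)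
open Cfsg.Agent.CpAutHNFive Cfsg.Agent.CpAutHNFive.TFive Cfsg.Agent.CpAutHNFive.HTab
open Cfsg.Agent.CpAutHNFive.HFacts Cfsg.Agent.CpAutHNFive.TauFive Cfsg.Agent.CpAutHNFive.QD
open Subgroup

/-! ### `A7` and a 5-cycle in `A12` -/

/-- the 5-cycle `(7 8 9 10 11)` -/
def x5 : Equiv.Perm (Fin 12) := cy [7, 8, 9, 10, 11]

theorem x5_mem : x5 ∈ alternatingGroup (Fin 12) := by rw [Equiv.Perm.mem_alternatingGroup]; decide +kernel

theorem x5_fix : ∀ i : Fin 12, (i : ℕ) < 7 → x5 i = i := by decide +kernel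

/-- the embedding of the symmetric group of degree 7 -/
def ι₀ : Equiv.Perm (Fin 7) →* Equiv.Perm (Fin 12) :=
  Equiv.Perm.extendDomainHom (Fin.castLEquiv (n := 7) (m := 12) (by norm_num))

theorem ι₀_inj : Function.Injective ι₀ := Equiv.Perm.extendDomainHom_injective _

theorem ι₀_comm (s : Equiv.Perm (Fin 7)) : ι₀ s * x5 = x5 * ι₀ s := by
  have h : (ι₀ s).Disjoint x5 := by
    intro i
    by_cases hi : (i : ℕ) < 7
    · exact Or.inr (x5_fix i hi)
    · exact Or.inl (Equiv.Perm.extendDomain_apply_not_subtype s _ hi)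
  exact h.commute.eq

theorem ι₀_sign (s : Equiv.Perm (Fin 7)) : Equiv.Perm.sign (ι₀ s) = Equiv.Perm.sign s :=
  Equiv.Perm.sign_extendDomain s _

/-- the embedding of `A7` -/
def ι : alternatingGroup (Fin 7) →* A12 where
  toFun s := ⟨ι₀ s, by
    rw [Equiv.Perm.mem_alternatingGroup, ι₀_sign]
    exact Equiv.Perm.mem_alternatingGroup.1 s.2⟩
  map_one' := Subtype.ext (map_one ι₀)
  map_mul' a b := Subtype.ext (map_mul ι₀ (a : Equiv.Perm (Fin 7)) (b : Equiv.Perm (Fin 7)))

theorem ι_inj : Function.Injective ι := by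
  intro a b h
  exact Subtype.ext (ι₀_inj (congrArg Subtype.val h))

/-- the image of the 5-cycle in `HN` -/
noncomputable def X5 : G := Φ ⟨x5, x5_mem⟩

theorem order_X5 : orderOf X5 = 5 := by
  have : Fact (Nat.Prime 5) := ⟨Nat.prime_five⟩
  rw [X5, orderOf_injective Φ Φ_inj]
  apply orderOf_eq_prime
  · apply Subtype.ext
    change x5 ^ 5 = 1
    decide +kernel
  · intro h
    have h2 : x5 = 1 := congrArg Subtype.val h
    exact absurd h2 (by decide +kernel)

/-- `A7` in the centraliser of the 5-cycle -/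
noncomputable def jj : alternatingGroup (Fin 7) →* ↥(centralizer ({X5} : Set G)) where
  toFun s := ⟨(Φ.comp ι) s, mem_centralizer_singleton_iff.2 (by
    change Φ (ι s) * Φ ⟨x5, x5_mem⟩ = Φ ⟨x5, x5_mem⟩ * Φ (ι s)
    rw [← map_mul, ← map_mul]
    exact congrArg _ (Subtype.ext (ι₀_comm s)))⟩
  map_one' := Subtype.ext (map_one (Φ.comp ι))
  map_mul' a b := Subtype.ext (map_mul (Φ.comp ι) a b)

theorem jj_inj : Function.Injective jj := by
  intro a b h
  exact ι_inj (Φ_inj (congrArg Subtype.val h))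

/-- `(0 1)(2 3)` in `A7` -/
def u7 : alternatingGroup (Fin 7) := ⟨([0, 1] : List (Fin 7)).formPerm * ([2, 3] : List (Fin 7)).formPerm, by
  rw [Equiv.Perm.mem_alternatingGroup]; decide +kernel⟩
/-- `(0 2)(1 3)` in `A7` -/
def v7 : alternatingGroup (Fin 7) := ⟨([0, 2] : List (Fin 7)).formPerm * ([1, 3] : List (Fin 7)).formPerm, by
  rw [Equiv.Perm.mem_alternatingGroup]; decide +kernel⟩

theorem order_u7 : orderOf u7 = 2 := by
  have : Fact (Nat.Prime 2) := ⟨Nat.prime_two⟩
  apply orderOf_eq_prime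
  · apply Subtype.ext
    change (([0, 1] : List (Fin 7)).formPerm * ([2, 3] : List (Fin 7)).formPerm) ^ 2 = 1
    decide +kernel
  · intro h
    have h2 : ([0, 1] : List (Fin 7)).formPerm * ([2, 3] : List (Fin 7)).formPerm = 1 := congrArg Subtype.val h
    exact absurd h2 (by decide +kernel)

theorem order_v7 : orderOf v7 = 2 := by
  have : Fact (Nat.Prime 2) := ⟨Nat.prime_two⟩
  apply orderOf_eq_prime
  · apply Subtype.ext
    change (([0, 2] : List (Fin 7)).formPerm * ([1, 3] : List (Fin 7)).formPerm) ^ 2 = 1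
    decide +kernel
  · intro h
    have h2 : ([0, 2] : List (Fin 7)).formPerm * ([1, 3] : List (Fin 7)).formPerm = 1 := congrArg Subtype.val h
    exact absurd h2 (by decide +kernel)

theorem uv7 : u7 * v7 = v7 * u7 := by
  apply Subtype.ext
  change ([0, 1] : List (Fin 7)).formPerm * ([2, 3] : List (Fin 7)).formPerm *
    (([0, 2] : List (Fin 7)).formPerm * ([1, 3] : List (Fin 7)).formPerm) =
    ([0, 2] : List (Fin 7)).formPerm * ([1, 3] : List (Fin 7)).formPerm *
    (([0, 1] : List (Fin 7)).formPerm * ([2, 3] : List (Fin 7)).formPerm)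
  decide +kernel

theorem ne7 : u7 ≠ v7 := by
  intro h
  have h2 : ([0, 1] : List (Fin 7)).formPerm * ([2, 3] : List (Fin 7)).formPerm =
    ([0, 2] : List (Fin 7)).formPerm * ([1, 3] : List (Fin 7)).formPerm := congrArg Subtype.val h
  exact absurd h2 (by decide +kernel)

theorem simple7 : IsSimpleGroup (alternatingGroup (Fin 7)) := alternatingGroup.isSimpleGroup (by
  rw [Nat.card_eq_fintype_card, Fintype.card_fin]; norm_num)

theorem card7 : Nat.card (alternatingGroup (Fin 7)) = 2520 := by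
  have h := nat_card_alternatingGroup (α := Fin 7)
  rw [h, Nat.card_eq_fintype_card, Fintype.card_fin]
  rfl

theorem tt_comm : tt * X5 = X5 * tt := _root_.Cfsg.Agent.CpAutHN.Pairs.comm_of t2_mem x5_mem (by decide +kernel)

theorem not_good : ¬ Good ↥(centralizer ({X5} : Set G)) := by
  rintro (⟨h1, -⟩ | h1)
  · apply ne7
    apply jj_inj
    exact h1 _ _ (by rw [orderOf_injective jj jj_inj, order_u7]) (by rw [orderOf_injective jj jj_inj, order_v7])
      (by rw [← map_mul, ← map_mul, uv7])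
  · have h2 : Group.IsSolvable (alternatingGroup (Fin 7)) := Group.isSolvable_of_isSolvable_injective jj_inj
    have := simple7
    have h3 := (IsSimpleGroup.comm_iff_isSolvable (G := alternatingGroup (Fin 7))).2 h2
    have h4 : ([0, 1] : List (Fin 7)).formPerm * ([2, 3] : List (Fin 7)).formPerm *
      (([0, 4] : List (Fin 7)).formPerm * ([5, 6] : List (Fin 7)).formPerm) =
      (([0, 4] : List (Fin 7)).formPerm * ([5, 6] : List (Fin 7)).formPerm) *
      (([0, 1] : List (Fin 7)).formPerm * ([2, 3] : List (Fin 7)).formPerm) :=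
      congrArg Subtype.val (h3 u7 ⟨([0, 4] : List (Fin 7)).formPerm * ([5, 6] : List (Fin 7)).formPerm, by
        rw [Equiv.Perm.mem_alternatingGroup]; decide +kernel⟩)
    exact absurd h4 (by decide +kernel)

/-! ### the class 5A -/

/-- elements of `C(ψ w2)` -/
noncomputable def el (v : H0) (hv : v * hw w2 = hw w2 * v) : ↥(centralizer ({ψ (hw w2)} : Set G)) :=
  ⟨ψ v, mem_centralizer_singleton_iff.2 (by rw [← map_mul, ← map_mul, hv])⟩

theorem qdat : QDat (el (hw wg) g_comm) (el (hw wh) h_comm) := by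
  refine ⟨?_, ?_, ?_⟩
  · rw [← Subgroup.orderOf_coe]
    change orderOf (ψ (hw wg)) = 8
    rw [orderOf_injective _ emb.inj, order_g]
  · rw [← Subgroup.orderOf_coe]
    change orderOf (ψ (hw wh)) = 2
    rw [orderOf_injective _ emb.inj, order_h]
  · apply Subtype.ext
    change ψ (hw wh) * ψ (hw wg) * (ψ (hw wh))⁻¹ = (ψ (hw wg)) ^ 3
    rw [← map_mul, ← map_inv, ← map_mul, hgh, map_pow]

theorem not32 : ¬ 32 ∣ Nat.card ↥(centralizer ({ψ (hw w2)} : Set G)) := by
  have : Fact (Nat.Prime 2) := ⟨Nat.prime_two⟩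
  have h4 : el (hw wg) g_comm ^ 4 = tz (hw w2) := by
    apply Subtype.ext
    change (ψ (hw wg)) ^ 4 = ψ τ
    rw [← map_pow, g_four]
  obtain ⟨P, hP⟩ := qdat.exists_sylow (by
    rw [h4, ← Nat.card_congr (equiv_C (hw w2)).toEquiv]
    exact not_dvd_two)
  have h1 := P.card_eq_multiplicity
  rw [hP, qdat.card] at h1
  intro h32
  have h5 : 5 ≤ (Nat.card ↥(centralizer ({ψ (hw w2)} : Set G))).factorization 2 :=
    (Nat.Prime.pow_dvd_iff_le_factorization Nat.prime_two Nat.card_pos.ne').1 h32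
  have h6 : 2 ^ 5 ≤ 2 ^ (Nat.card ↥(centralizer ({ψ (hw w2)} : Set G))).factorization 2 :=
    Nat.pow_le_pow_right (by norm_num) h5
  rw [← h1] at h6
  norm_num at h6

theorem exists_dat (FT : ∀ (K : Type) [Group K] [Finite K], Odd (Nat.card K) → Group.IsSolvable K)
    (h204 : ∀ (K : Type) [Group K] [Finite K] [IsSimpleGroup K], ¬ IsCyclic K → ∃ E : Subgroup K, IsKleinFour E) :
    ∃ (g h w : ↥(centralizer ({ψ (hw w2)} : Set G))) (J : Subgroup ↥(centralizer ({ψ (hw w2)} : Set G)))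
      (u v : ↥(centralizer ({ψ (hw w2)} : Set G))), Dat g h w J u v := by
  obtain ⟨e⟩ := (main_cases FT h204 order_X5 order_tt tt_comm).resolve_left not_good
  let f : alternatingGroup (Fin 7) →* ↥(centralizer ({ψ (hw w2)} : Set G)) := e.toMonoidHom.comp jj
  have hf : Function.Injective f := e.injective.comp jj_inj
  let ef : alternatingGroup (Fin 7) ≃* ↥f.range := MonoidHom.ofInjective hf
  refine ⟨el (hw wg) g_comm, el (hw wh) h_comm, el (hw wt) t_comm, f.range, f u7, f v7,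
    { D := qdat
      not32 := not32
      w3 := Subtype.ext (by
        change (ψ (hw wt)) ^ 3 = 1
        rw [← map_pow, t_three, map_one])
      hw := Subtype.ext (by
        change (ψ (hw wt))⁻¹ * (ψ (hw wg)) ^ 2 * ψ (hw wt) = ψ (hw wg) * ψ (hw wh)
        rw [← map_pow, ← map_inv, ← map_mul, ← map_mul, ← map_mul, tgt])
      simple := ?_
      card := ?_
      uJ := ⟨u7, rfl⟩
      vJ := ⟨v7, rfl⟩
      u2 := by rw [orderOf_injective f hf, order_u7]
      v2 := by rw [orderOf_injective f hf, order_v7]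
      uv := by rw [← map_mul, ← map_mul, uv7]
      ne := fun h => ne7 (hf h) }⟩
  · have := simple7
    exact (CpQuot.Congr.isSimple_iff ef).1 simple7
  · rw [← Nat.card_congr ef.toEquiv, card7]

/-! ### the row -/

/-- the hypothesis: simple groups with quasi-dihedral Sylow 2-subgroups (`S0507`) -/
def QDList : Prop := ∀ (K : Type) [Group K] [Finite K] [IsSimpleGroup K] (S : Sylow 2 K),
  IsQuasiDihedral (S : Subgroup K) →
  (∃ (F : Type) (_ : Field F) (_ : Fintype F), Fintype.card F % 4 = 3 ∧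
    Nonempty (K ≃* Matrix.ProjectiveSpecialLinearGroup (Fin 3) F)) ∨
  (∃ (F : Type) (_ : Field F) (_ : Fintype F) (q : ℕ), Fintype.card F = q ^ 2 ∧ q % 4 = 1 ∧
    Nonempty (K ≃* PSU 3 F q)) ∨ IsM11 K

theorem comps (FT : ∀ (K : Type) [Group K] [Finite K], Odd (Nat.card K) → Group.IsSolvable K)
    (h204 : ∀ (K : Type) [Group K] [Finite K] [IsSimpleGroup K], ¬ IsCyclic K → ∃ E : Subgroup K, IsKleinFour E)
    (h507 : QDList) {x : G} (hx : orderOf x = 5) : Comps 5 ↥(centralizer ({x} : Set G)) := by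
  rcases Nat.even_or_odd (Nat.card ↥(centralizer ({x} : Set G))) with he | ho
  · have : Fact (Nat.Prime 2) := ⟨Nat.prime_two⟩
    obtain ⟨u, hu⟩ := exists_prime_orderOf_dvd_card' 2 (even_iff_two_dvd.1 he)
    rcases main_cases FT h204 hx (u := (u : G)) (by rw [Subgroup.orderOf_coe, hu])
      (mem_centralizer_singleton_iff.1 u.2) with h | ⟨⟨e⟩⟩
    · exact h.comps
    · obtain ⟨g, h, w, J, u, v, X⟩ := exists_dat FT h204
      have hc : Nat.card ↥(centralizer ({ψ (hw w2)} : Set G)) ∣ Num.N0 := by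
        have h1 := card_subgroup_dvd_card (centralizer ({ψ (hw w2)} : Set G))
        rw [Classes.card_HN] at h1
        exact h1
      exact (X.comps FT h204 h507 hc).congr e.symm
  · exact Comps.of_solvable (FT _ ho)

/-- automorphisms of odd prime order of `HN` are inner -/
theorem autInner {p : ℕ} (hp : p.Prime) (hp2 : p ≠ 2) : AutInner p Cfsg.Spor.HN := by
  rcases out_index with h | h
  · refine CpAut.autInner_of_index ?_ ?_
    · rw [h]; exact Nat.coprime_one_left p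
    · rw [Subgroup.index_eq_one] at h
      rw [h]
      infer_instance
  · refine CpAut.autInner_of_index ?_ (Subgroup.normal_of_index_eq_two h)
    rw [h]
    exact (Nat.coprime_primes Nat.prime_two hp).2 hp2.symm

theorem center_HN : center Cfsg.Spor.HN = ⊥ := by
  refine CpAut.center_eq_bot_of_simple ?_
  intro h
  obtain ⟨a, -, b, -, hab⟩ := not_abelian
  exact hab (h.is_comm.comm a b)

theorem autC_HN (FT : ∀ (K : Type) [Group K] [Finite K], Odd (Nat.card K) → Group.IsSolvable K)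
    (h204 : ∀ (K : Type) [Group K] [Finite K] [IsSimpleGroup K], ¬ IsCyclic K → ∃ E : Subgroup K, IsKleinFour E)
    (h507 : QDList) : AutC 5 Cfsg.Spor.HN :=
  CpAut.autC_of_inner center_HN (autInner Nat.prime_five (by norm_num)) fun _ hg => comps FT h204 h507 hg

end Cfsg.Agent.CpAutHNFive.Main

end

private theorem dce_4e4b9629a56e : _root_.True := by
  try have : _root_.True := by simp only [_root_.Cfsg.Agent.CpAutHNFive.Main.X5.eq_1]
  try have : _root_.True := by simp only [_root_.Cfsg.Agent.CpAutHNFive.Num.N0.eq_1]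
  try have : _root_.True := by simp only [_root_.Cfsg.Agent.CpAutHNFive.HTab.elw.eq_1]
  try have : _root_.True := by simp only [_root_.Cfsg.Agent.CpAutHNFive.PFive.fixC.eq_1]
  try have : _root_.True := by simp only [_root_.Cfsg.Agent.CpAutHNFive.LFive.c5.eq_1]
  try have : _root_.True := by simp only [_root_.Cfsg.Agent.CpAutHNFive.PFive.vC.eq_1]
  exact _root_.True.intro
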